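import Groth.Agent.Pic13.K244.RegSeq
import Groth.Agent.CurvesB.HZero
import Groth.Agent.CycB.StalkExact

/-!
# Negative twists: strict decrease of `h^1(B(t))` for `t → -∞`

On `P = P^n_k`:
* `eq_zero`: `e ∈ H^1(C(t))` killed by all the variables is zero if `H^0(C(t+2)) = 0` and some variable is injective on `C`;
* `van_down`: for `0 → B(-1) → B → C → 0` with `H^0(C(t)) = 0` for `t < 0` and `H^1(B(t)) = 0` for `t ≪ 0`:
  `H^1(B(t)) = 0` for `t ≤ -2 - h^1(B(-2))`.
-/

set_option autoImplicit false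
universe u
open CategoryTheory CategoryTheory.Limits AlgebraicGeometry Opposite TopologicalSpace

namespace K987.Down

open Groth.Agent Groth.Agent.VarietyA.EulerLES Groth.Agent.VarietyB.EulerBinom
open Groth.Agent.Fga.TwistGr Groth.Agent.Fga.HShift Groth.Agent.VarietyB.KoszulCone
open K244.RegSeq Groth.Agent.CycB.StalkExact

variable {k : Type u} [Field k] {n : ℕ}

section general

variable {X : Scheme.{u}}

/-- Naturality of the connecting homomorphism. -/
theorem delta_nat (S T : ShortComplex X.Modules) (hS : S.ShortExact) (hT : T.ShortExact) (φ : S ⟶ T) (n₀ n₁ : ℕ)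
    (h : n₀ + 1 = n₁) (x : Coh.HH X S.X₃ n₀) :
    mapΓ φ.τ₁ n₁ (deltaΓ S hS n₀ n₁ h x) = deltaΓ T hT n₀ n₁ h (mapΓ φ.τ₃ n₀ x) := by
  rw [mapΓ_apply, deltaΓ_apply, deltaΓ_apply, mapΓ_apply, Sheaf.H.map_apply, Sheaf.H.map_apply,
    Abelian.Ext.comp_assoc_of_third_deg_zero, Abelian.Ext.comp_assoc_of_second_deg_zero]
  congr 1
  exact extCl_naturality hS hT ((toAbF X).map φ.τ₁) ((toAbF X).map φ.τ₂) ((toAbF X).map φ.τ₃)
    (by rw [← Functor.map_comp, ← Functor.map_comp, φ.comm₁₂])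
    (by rw [← Functor.map_comp, ← Functor.map_comp, φ.comm₂₃])

/-- On stalks, the third map of a morphism of short exact sequences is injective if the first is surjective and the
second injective. -/
theorem stalk_injective (S T : ShortComplex X.Modules) (hS : S.ShortExact) (hT : T.ShortExact) (φ : S ⟶ T) (x : X)
    (h1 : Function.Surjective (stalkLin φ.τ₁ x)) (h2 : Function.Injective (stalkLin φ.τ₂ x)) :
    Function.Injective (stalkLin φ.τ₃ x) := by
  have := hS.epi_g
  rw [injective_iff_map_eq_zero]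
  intro z hz
  obtain ⟨y, rfl⟩ := stalkLin_surjective S.g x z
  have e1 : stalkLin T.g x (stalkLin φ.τ₂ x y) = 0 := by
    rw [← hz, ← LinearMap.comp_apply, ← LinearMap.comp_apply, ← stalkLin_comp, ← stalkLin_comp, φ.comm₂₃]
  obtain ⟨w, hw⟩ := (stalkLin_exact T hT.exact x _).mp e1
  obtain ⟨v, rfl⟩ := h1 w
  have e2 : stalkLin φ.τ₂ x (stalkLin S.f x v) = stalkLin φ.τ₂ x y := by
    rw [← hw, ← LinearMap.comp_apply, ← LinearMap.comp_apply, ← stalkLin_comp, ← stalkLin_comp, φ.comm₁₂]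
  rw [← h2 e2]
  exact (stalkLin_exact S hS.exact x _).mpr ⟨v, rfl⟩

/-- A class in `H^0` which dies under maps injective on stalks at every point is zero. -/
theorem h0_eq_zero {M : X.Modules} {ι : Type*} (N : ι → X.Modules) (f : ∀ i, M ⟶ N i)
    (hf : ∀ x : X, ∃ i, Function.Injective (stalkLin (f i) x)) (u : Coh.HH X M 0) (hu : ∀ i, mapΓ (f i) 0 u = 0) :
    u = 0 := by
  apply (CurvesB.HZero.equivAdd M).injective
  rw [map_zero]
  refine TopCat.Presheaf.section_ext ⟨M.presheaf, M.isSheaf⟩ ⊤ _ _ fun x hx => ?_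
  obtain ⟨i, hi⟩ := hf x
  apply hi
  change stalkLin (f i) x (M.presheaf.germ ⊤ x hx _) = stalkLin (f i) x (M.presheaf.germ ⊤ x hx 0)
  rw [stalkLin_germ, stalkLin_germ, map_zero, ← CurvesB.HZero.equivAdd_map]
  have h1 : Sheaf.H.map ((SheafOfModules.toSheaf X.ringCatSheaf).map (f i)) 0 u = 0 := hu i
  rw [h1, map_zero]

end general

/-- The short exact sequence `0 → C(t) → C(t+1) → Q → 0` given by a variable. -/
noncomputable def qs (C : (CohB1.ProjSpace n k).Modules) (i₀ : Fin (n + 1)) (t : ℤ) :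
    ShortComplex (CohB1.ProjSpace n k).Modules :=
  ShortComplex.mk ((grF C).x i₀ t) (cokernel.π _) (cokernel.condition _)

theorem qs_shortExact (C : (CohB1.ProjSpace n k).Modules) (i₀ : Fin (n + 1)) (t : ℤ) [Mono ((grF C).x i₀ t)] :
    (qs C i₀ t).ShortExact where
  exact := ShortComplex.exact_cokernel _
  mono_f := inferInstanceAs (Mono ((grF C).x i₀ t))
  epi_g := by
    change Epi (coequalizer.π ((grF C).x i₀ t) 0)
    exact coequalizer.π_epi

/-- Multiplication by a variable on the sequences. -/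
noncomputable def qm (C : (CohB1.ProjSpace n k).Modules) (i₀ i : Fin (n + 1)) (t : ℤ) : qs C i₀ t ⟶ qs C i₀ (t + 1) where
  τ₁ := (grF C).x i t
  τ₂ := (grF C).x i (t + 1)
  τ₃ := cokernel.map _ _ ((grF C).x i t) ((grF C).x i (t + 1)) ((grF C).comm i₀ i t)
  comm₁₂ := (grF C).comm i i₀ t
  comm₂₃ := by simp [qs]

/-- A class of `H^1(C(t))` killed by all variables vanishes if `H^0(C(t+2)) = 0`. -/
theorem eq_zero (C : (CohB1.ProjSpace n k).Modules) (i₀ : Fin (n + 1)) (t : ℤ) [Mono ((grF C).x i₀ t)]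
    [Mono ((grF C).x i₀ (t + 1))] (h0 : Subsingleton (H k n C (t + 1 + 1) 0)) (e : H k n C t 1)
    (he : ∀ i, mapΓ ((grF C).x i t) 1 e = 0) : e = 0 := by
  have h1 : mapΓ (qs C i₀ t).f 1 e = 0 := he i₀
  obtain ⟨u, rfl⟩ := (exact₁ (qs C i₀ t) (qs_shortExact C i₀ t) 0 1 rfl e).mp h1
  have h2 : ∀ i, mapΓ (qm C i₀ i t).τ₃ 0 u = 0 := by
    intro i
    have h3 := delta_nat (qs C i₀ t) (qs C i₀ (t + 1)) (qs_shortExact C i₀ t) (qs_shortExact C i₀ (t + 1))
      (qm C i₀ i t) 0 1 rfl u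
    have h4 : mapΓ (qm C i₀ i t).τ₁ 1 (deltaΓ (qs C i₀ t) (qs_shortExact C i₀ t) 0 1 rfl u) = 0 := he i
    rw [h4] at h3
    obtain ⟨v, hv⟩ := (exact₃ (qs C i₀ (t + 1)) (qs_shortExact C i₀ (t + 1)) 0 1 rfl _).mp h3.symm
    have h5 : Subsingleton (Coh.HH (CohB1.ProjSpace n k) (qs C i₀ (t + 1)).X₂ 0) := h0
    rw [← hv, Subsingleton.elim v 0, map_zero]
  have h6 : u = 0 := by
    refine h0_eq_zero (fun _ => (qs C i₀ (t + 1)).X₃) (fun i => (qm C i₀ i t).τ₃) (fun x => ?_) u h2
    obtain ⟨i, hi⟩ := exists_mem_dplus x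
    refine ⟨i, stalk_injective _ _ (qs_shortExact C i₀ t) (qs_shortExact C i₀ (t + 1)) (qm C i₀ i t) x ?_ ?_⟩
    · have := isIso_stalk_grF C i t x hi
      have h7 := (ConcreteCategory.isIso_iff_bijective ((stalkFun x).map ((grF C).x i t))).mp this
      exact h7.2
    · have := isIso_stalk_grF C i (t + 1) x hi
      have h7 := (ConcreteCategory.isIso_iff_bijective ((stalkFun x).map ((grF C).x i (t + 1)))).mp this
      exact h7.1
  rw [h6, map_zero]
  rfl

section

variable {S : ShortComplex (CohB1.ProjSpace n k).Modules} (hS : S.ShortExact)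
  (e : S.X₁ ≅ CohB1.tensorMod S.X₂ (Twist.twistProjSpace n k (-1)))

/-- If `H^1(B(t+1)) → H^1(C(t+1))` is zero, so is `H^1(B(t)) → H^1(C(t))`. -/
theorem gm_zero (i₀ : Fin (n + 1)) (t : ℤ) [Mono ((grF S.X₃).x i₀ t)] [Mono ((grF S.X₃).x i₀ (t + 1))]
    (h0 : Subsingleton (H k n S.X₃ (t + 1 + 1) 0)) (h : ∀ b, gm S (t + 1) 1 b = 0) (b : H k n S.X₂ t 1) :
    gm S t 1 b = 0 := by
  refine eq_zero S.X₃ i₀ t h0 (gm S t 1 b) fun i => ?_
  have h2 := map_mulVar S.g i t
  have h3 := LinearMap.congr_fun (mapΓ_comp ((grF S.X₂).x i t)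
    ((DCoh.tensorRightMod (Twist.twistProjSpace n k (t + 1))).map S.g) 1) b
  have h4 := LinearMap.congr_fun (mapΓ_comp ((DCoh.tensorRightMod (Twist.twistProjSpace n k t)).map S.g)
    ((grF S.X₃).x i t) 1) b
  refine Eq.trans h4.symm ((congrArg (fun φ => mapΓ φ 1 b) h2.symm).trans (h3.trans ?_))
  exact h _

include hS e

theorem van_down (h₂ : Coh.IsCoh S.X₂) (i₀ : Fin (n + 1)) (hmono : ∀ t, Mono ((grF S.X₃).x i₀ t))
    (hneg : ∀ t : ℤ, t < 0 → Subsingleton (H k n S.X₃ t 0))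
    (hesz : ∃ t₀ : ℤ, ∀ t : ℤ, t ≤ t₀ → Subsingleton (H k n S.X₂ t 1)) (t : ℤ)
    (ht : t ≤ -2 - (Module.finrank k (H k n S.X₂ (-2) 1) : ℤ)) : Subsingleton (H k n S.X₂ t 1) := by
  obtain ⟨t₀, ht₀⟩ := hesz
  -- injectivity
  have hinj : ∀ t : ℤ, t < 0 → Function.Injective (fm S t 1) := by
    intro t ht
    rw [injective_iff_map_eq_zero]
    intro x hx
    obtain ⟨y, rfl⟩ := (exact_df hS t 0 x).mp hx
    have := hneg t ht
    rw [Subsingleton.elim y 0, map_zero]
  -- if the map to `C` is zero at `t`, everything vanishes below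
  have hzero : ∀ t : ℤ, t ≤ -2 → (∀ b, gm S t 1 b = 0) → Subsingleton (H k n S.X₂ t 1) := by
    have key : ∀ (l : ℕ) (t : ℤ), t ≤ -2 → t - l ≤ t₀ → (∀ b, gm S t 1 b = 0) → Subsingleton (H k n S.X₂ t 1) := by
      intro l
      induction l with
      | zero => intro t _ h _; exact ht₀ t (by simpa using h)
      | succ l ih =>
        intro t h1 h2 h3
        have h4 : Subsingleton (H k n S.X₂ (t - 1) 1) := by
          refine ih (t - 1) (by omega) (by push_cast at h2; omega) fun b => ?_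
          have := hmono (t - 1)
          have := hmono (t - 1 + 1)
          refine gm_zero i₀ (t - 1) (hneg _ (by omega)) ?_ b
          rw [sub_add_cancel]
          exact h3
        obtain ⟨e'⟩ := nonempty_equivH e t 1
        have h5 : Subsingleton (H k n S.X₁ t 1) := e'.toEquiv.subsingleton
        refine subsingleton_of_forall_eq 0 fun x => ?_
        obtain ⟨y, rfl⟩ := (exact_fg hS t 1 x).mp (h3 x)
        rw [Subsingleton.elim y 0, map_zero]
    intro t h1 h2
    exact key (t - t₀).toNat t h1 (by have := Int.self_le_toNat (t - t₀); omega) h2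
  -- strict decrease
  have hdrop : ∀ t : ℤ, t ≤ -2 → Module.finrank k (H k n S.X₂ (t - 1) 1) < Module.finrank k (H k n S.X₂ t 1) ∨
      Subsingleton (H k n S.X₂ t 1) := by
    intro t h1
    by_cases h : ∀ b, gm S t 1 b = 0
    · exact Or.inr (hzero t h1 h)
    left
    obtain ⟨e'⟩ := nonempty_equivH e t 1
    rw [← e'.finrank_eq]
    have hfin := finite_H k n h₂ t 1
    have hfin1 := finite_H k n h₂ (t - 1) 1
    have : Module.Finite k (H k n S.X₁ t 1) := Module.Finite.equiv e'.symm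
    have h2 := LinearMap.finrank_range_of_inj (hinj t (by omega))
    rw [← h2]
    apply Submodule.finrank_lt
    intro htop
    apply h
    intro b
    have : b ∈ LinearMap.range (fm S t 1) := by rw [htop]; trivial
    obtain ⟨y, rfl⟩ := this
    exact (exact_fg hS t 1 _).mpr ⟨y, rfl⟩
  have hmono1 : ∀ t : ℤ, t < 0 → Module.finrank k (H k n S.X₂ (t - 1) 1) ≤ Module.finrank k (H k n S.X₂ t 1) := by
    intro t h1
    obtain ⟨e'⟩ := nonempty_equivH e t 1
    rw [← e'.finrank_eq]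
    have hfin := finite_H k n h₂ t 1
    exact LinearMap.finrank_le_finrank_of_injective (hinj t h1)
  have hb : ∀ l : ℕ, Module.finrank k (H k n S.X₂ (-2 - (l : ℤ)) 1) ≤ Module.finrank k (H k n S.X₂ (-2) 1) - l := by
    intro l
    induction l with
    | zero => simp
    | succ l ih =>
      have e1 : (-2 : ℤ) - ((l + 1 : ℕ) : ℤ) = -2 - (l : ℤ) - 1 := by push_cast; ring
      rw [e1]
      rcases hdrop (-2 - (l : ℤ)) (by omega) with h1 | h1
      · omega
      · have h2 := hmono1 (-2 - (l : ℤ)) (by omega)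
        have h3 : Module.finrank k (H k n S.X₂ (-2 - (l : ℤ)) 1) = 0 := Module.finrank_zero_of_subsingleton
        omega
  obtain ⟨l, hl⟩ : ∃ l : ℕ, t = -2 - (l : ℤ) := ⟨(-2 - t).toNat, by omega⟩
  subst hl
  have h1 := hb l
  have hfin := finite_H k n h₂ (-2 - (l : ℤ)) 1
  have h2 : Module.finrank k (H k n S.X₂ (-2 - (l : ℤ)) 1) = 0 := by omega
  exact (Module.finrank_zero_iff (R := k)).mp h2

end

end K987.Down
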