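import Mathlib.RingTheory.TensorProduct.MvPolynomial
import Mathlib.RingTheory.Localization.BaseChange
import Mathlib.RingTheory.Localization.FractionRing
import Mathlib.RingTheory.Localization.Ideal
import Mathlib.Algebra.Category.Ring.Constructions
import Groth.Agent.EGA43.K125.PolyUnibranch
import Groth.Agent.Ega4C.NormalRing2
import Groth.Agent.S2070

/-!
# The generic hyperplane section: algebra

For a field `k`, `Gen k n = k(t_0, …, t_n)`.  For a `k`-algebra `F` and `a_0, …, a_n ∈ F` with some `a_m = 1`, the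
quotient `D` of `F ⊗ Gen k n` by `b = ∑ a_j ⊗ t_j` is a localization of a polynomial ring over `F`:
* `top_or_prime`: `b` generates the unit ideal or a prime ideal (`F` a domain);
* `isNormalRing_quot`: `D` is a normal ring (`F` an integrally closed domain);
* `not_mem`: if `D ≠ 0`, `f ⊗ 1 ∉ (b)` for `f ≠ 0`.
-/

set_option autoImplicit false

universe u v

open CategoryTheory CategoryTheory.Limits TensorProduct MvPolynomial

namespace K987.GenAlg

open Groth.Agent

section poly

variable {n : ℕ} {F : Type u} [CommRing F] (m : Fin (n + 1)) (a : Fin (n + 1) → F)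

/-- The linear form. -/
noncomputable def lf : MvPolynomial (Fin (n + 1)) F := ∑ j, C (a j) * X j

/-- Elimination of the variable `m`. -/
noncomputable def θ : MvPolynomial (Fin (n + 1)) F →ₐ[F] MvPolynomial (Fin n) F :=
  aeval (m.insertNth (α := fun _ => MvPolynomial (Fin n) F) (-∑ i, C (a (m.succAbove i)) * X i) X)

theorem θ_X_self : θ m a (X m) = -∑ i, C (a (m.succAbove i)) * X i := by
  rw [θ, aeval_X, Fin.insertNth_apply_same]

theorem θ_X_succAbove (i : Fin n) : θ m a (X (m.succAbove i)) = X i := by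
  rw [θ, aeval_X, Fin.insertNth_apply_succAbove]

theorem θ_lf (hm : a m = 1) : θ m a (lf a) = 0 := by
  rw [lf, map_sum, Fin.sum_univ_succAbove _ m]
  simp only [map_mul, θ_X_self, θ_X_succAbove, algHom_C, hm, map_one, one_mul, algebraMap_eq]
  rw [neg_add_cancel]

theorem surjective_θ : Function.Surjective (θ m a) := by
  intro p
  refine ⟨rename m.succAbove p, ?_⟩
  have h : (θ m a).comp (rename m.succAbove) = AlgHom.id F _ := by
    ext i
    simp [θ_X_succAbove]
  exact DFunLike.congr_fun h p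

theorem mem_of_θ (hm : a m = 1) (f : MvPolynomial (Fin (n + 1)) F) (hf : θ m a f = 0) : f ∈ Ideal.span {lf a} := by
  have h : ((Ideal.Quotient.mkₐ F (Ideal.span {lf a})).comp (rename m.succAbove)).comp (θ m a) =
      Ideal.Quotient.mkₐ F (Ideal.span {lf a}) := by
    ext j
    simp only [AlgHom.comp_apply, Ideal.Quotient.mkₐ_eq_mk]
    rcases Fin.eq_self_or_eq_succAbove m j with rfl | ⟨i, rfl⟩
    · rw [θ_X_self, ← sub_eq_zero, ← map_sub, Ideal.Quotient.eq_zero_iff_mem, ← neg_mem_iff, neg_sub]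
      have h1 : X j - rename j.succAbove (-∑ i, C (a (j.succAbove i)) * X i) = lf a := by
        rw [lf, Fin.sum_univ_succAbove _ j, hm]
        simp
      rw [h1]
      exact Ideal.mem_span_singleton_self _
    · rw [θ_X_succAbove]
      simp
  rw [← Ideal.Quotient.eq_zero_iff_mem]
  have h2 := DFunLike.congr_fun h f
  simp only [AlgHom.comp_apply, Ideal.Quotient.mkₐ_eq_mk, hf, map_zero] at h2
  exact h2.symm

theorem ker_θ (hm : a m = 1) : RingHom.ker (θ m a) = Ideal.span {lf a} := by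
  apply le_antisymm
  · intro f hf
    exact mem_of_θ m a hm f hf
  · rw [Ideal.span_singleton_le_iff_mem]
    exact θ_lf m a hm

/-- `F[X_0, …, X_n] / (∑ a_j X_j) ≃ F[X_1, …, X_n]`. -/
noncomputable def quotEquiv (hm : a m = 1) :
    (MvPolynomial (Fin (n + 1)) F ⧸ Ideal.span {lf a}) ≃+* MvPolynomial (Fin n) F :=
  (Ideal.quotEquivOfEq (ker_θ m a hm).symm).trans (RingHom.quotientKerEquivOfSurjective (surjective_θ m a))

theorem lf_ne_zero [Nontrivial F] (hm : a m = 1) : lf a ≠ 0 := by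
  intro h
  have h1 : coeff (Finsupp.single m 1) (lf a) = 1 := by
    rw [lf, coeff_sum, Finset.sum_eq_single m]
    · rw [coeff_C_mul, coeff_X, hm, if_pos rfl, mul_one]
    · intro j _ hj
      rw [coeff_C_mul, coeff_X, if_neg, mul_zero]
      intro h2
      exact hj ((Finsupp.single_left_inj one_ne_zero).mp h2)
    · intro h
      exact absurd (Finset.mem_univ m) h
  rw [h, coeff_zero] at h1
  exact zero_ne_one h1

end poly

section

variable (k : Type u) [Field k] (n : ℕ)

/-- The field `k(t_0, …, t_n)`. -/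
abbrev Gen : Type u := FractionRing (MvPolynomial (Fin (n + 1)) k)

/-- The variable `t_j`. -/
noncomputable def t (j : Fin (n + 1)) : Gen k n := algebraMap (MvPolynomial (Fin (n + 1)) k) (Gen k n) (X j)

variable (F : Type u) [CommRing F] [Algebra k F]

noncomputable def toLoc : F ⊗[k] MvPolynomial (Fin (n + 1)) k →ₐ[F] F ⊗[k] Gen k n :=
  Algebra.TensorProduct.map (AlgHom.id F F) (IsScalarTower.toAlgHom k (MvPolynomial (Fin (n + 1)) k) (Gen k n))

/-- The submonoid of nonzero polynomials with coefficients in `k`. -/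
noncomputable abbrev S : Submonoid (F ⊗[k] MvPolynomial (Fin (n + 1)) k) :=
  (nonZeroDivisors (MvPolynomial (Fin (n + 1)) k)).map
    (Algebra.TensorProduct.includeRight (R := k) (A := F))

theorem isLocalization :
    letI : Algebra (F ⊗[k] MvPolynomial (Fin (n + 1)) k) (F ⊗[k] Gen k n) := (toLoc k n F).toRingHom.toAlgebra
    IsLocalization (S k n F) (F ⊗[k] Gen k n) := by
  let _ : Algebra (F ⊗[k] MvPolynomial (Fin (n + 1)) k) (F ⊗[k] Gen k n) := (toLoc k n F).toRingHom.toAlgebra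
  have : IsScalarTower F (F ⊗[k] MvPolynomial (Fin (n + 1)) k) (F ⊗[k] Gen k n) :=
    IsScalarTower.of_algebraMap_eq' (toLoc k n F).comp_algebraMap.symm
  refine IsLocalization.tensorProduct_tensorProduct_right k F (nonZeroDivisors (MvPolynomial (Fin (n + 1)) k))
    (Gen k n) ?_
  ext x
  · simp [RingHom.algebraMap_toAlgebra, toLoc, IsScalarTower.algebraMap_apply k (MvPolynomial (Fin (n + 1)) k) (Gen k n),
      MvPolynomial.algebraMap_eq]
  · simp [RingHom.algebraMap_toAlgebra, toLoc]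

variable {F}

/-- `∑ a_j ⊗ X_j`. -/
noncomputable def x0 (a : Fin (n + 1) → F) : F ⊗[k] MvPolynomial (Fin (n + 1)) k :=
  ∑ j, a j ⊗ₜ[k] (X j : MvPolynomial (Fin (n + 1)) k)

/-- `∑ a_j ⊗ t_j`. -/
noncomputable def b (a : Fin (n + 1) → F) : F ⊗[k] Gen k n := ∑ j, a j ⊗ₜ[k] t k n j

theorem toLoc_x0 (a : Fin (n + 1) → F) : toLoc k n F (x0 k n a) = b k n a := by
  rw [x0, b, map_sum]
  rfl

theorem equiv_x0 (a : Fin (n + 1) → F) :
    MvPolynomial.algebraTensorAlgEquiv k F (x0 k n a) = lf a := by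
  rw [x0, lf, map_sum]
  refine Finset.sum_congr rfl fun j _ => ?_
  rw [MvPolynomial.algebraTensorAlgEquiv_tmul, MvPolynomial.map_X, MvPolynomial.smul_eq_C_mul]

theorem map_span (a : Fin (n + 1) → F) :
    letI : Algebra (F ⊗[k] MvPolynomial (Fin (n + 1)) k) (F ⊗[k] Gen k n) := (toLoc k n F).toRingHom.toAlgebra
    (Ideal.span {x0 k n a}).map (algebraMap (F ⊗[k] MvPolynomial (Fin (n + 1)) k) (F ⊗[k] Gen k n)) =
      Ideal.span {b k n a} := by
  let _ : Algebra (F ⊗[k] MvPolynomial (Fin (n + 1)) k) (F ⊗[k] Gen k n) := (toLoc k n F).toRingHom.toAlgebra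
  rw [Ideal.map_span, Set.image_singleton, ← toLoc_x0]
  rfl

/-- `(F ⊗ k[X]) / (x0) ≃ F[X_1, …, X_n]`. -/
noncomputable def quotEquiv0 (m : Fin (n + 1)) (a : Fin (n + 1) → F) (hm : a m = 1) :
    ((F ⊗[k] MvPolynomial (Fin (n + 1)) k) ⧸ Ideal.span {x0 k n a}) ≃+* MvPolynomial (Fin n) F :=
  (Ideal.quotientEquiv _ (Ideal.span {lf a}) (MvPolynomial.algebraTensorAlgEquiv k F).toRingEquiv (by
    rw [Ideal.map_span, Set.image_singleton]
    congr 2
    exact (equiv_x0 k n a).symm)).trans (quotEquiv m a hm)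

theorem isPrime_span_x0 [IsDomain F] (m : Fin (n + 1)) (a : Fin (n + 1) → F) (hm : a m = 1) :
    (Ideal.span {x0 k n a}).IsPrime := by
  rw [← Ideal.Quotient.isDomain_iff_prime]
  exact (quotEquiv0 k n m a hm).toMulEquiv.isDomain _

/-- `b` generates the unit ideal or a prime ideal. -/
theorem top_or_prime [IsDomain F] (m : Fin (n + 1)) (a : Fin (n + 1) → F) (hm : a m = 1) :
    Ideal.span {b k n a} = ⊤ ∨ (Ideal.span {b k n a}).IsPrime := by
  let _ : Algebra (F ⊗[k] MvPolynomial (Fin (n + 1)) k) (F ⊗[k] Gen k n) := (toLoc k n F).toRingHom.toAlgebra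
  have hloc := isLocalization k n F
  have hprime := isPrime_span_x0 k n m a hm
  rw [← map_span]
  by_cases hd : Disjoint (S k n F : Set (F ⊗[k] MvPolynomial (Fin (n + 1)) k)) (Ideal.span {x0 k n a} : Ideal _)
  · right
    exact IsLocalization.isPrime_of_isPrime_disjoint (S k n F) (F ⊗[k] Gen k n) _ hprime hd
  · left
    by_contra hne
    exact hd ((IsLocalization.map_algebraMap_ne_top_iff_disjoint (S k n F) (F ⊗[k] Gen k n) _).mp hne)

/-- If `b` is not a unit, `f ⊗ 1 ∉ (b)` for `f ≠ 0`. -/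
theorem not_mem [IsDomain F] (m : Fin (n + 1)) (a : Fin (n + 1) → F) (hm : a m = 1) (h : Ideal.span {b k n a} ≠ ⊤)
    (f : F) (hf : f ≠ 0) : f ⊗ₜ[k] (1 : Gen k n) ∉ Ideal.span {b k n a} := by
  let _ : Algebra (F ⊗[k] MvPolynomial (Fin (n + 1)) k) (F ⊗[k] Gen k n) := (toLoc k n F).toRingHom.toAlgebra
  have hloc := isLocalization k n F
  have hprime := isPrime_span_x0 k n m a hm
  rw [← map_span] at h ⊢
  have hd := (IsLocalization.map_algebraMap_ne_top_iff_disjoint (S k n F) (F ⊗[k] Gen k n) _).mp h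
  intro hmem
  have h1 : algebraMap (F ⊗[k] MvPolynomial (Fin (n + 1)) k) (F ⊗[k] Gen k n)
      (f ⊗ₜ[k] (1 : MvPolynomial (Fin (n + 1)) k)) = f ⊗ₜ[k] (1 : Gen k n) := by
    simp [RingHom.algebraMap_toAlgebra, toLoc]
  rw [← h1, IsLocalization.algebraMap_mem_map_algebraMap_iff (S k n F)] at hmem
  obtain ⟨s, hs, hsf⟩ := hmem
  rcases hprime.mem_or_mem hsf with h2 | h2
  · exact Set.disjoint_left.mp hd hs h2
  · have h3 : (quotEquiv0 k n m a hm) (Ideal.Quotient.mk _ (f ⊗ₜ[k] (1 : MvPolynomial (Fin (n + 1)) k))) = C f := by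
      change θ m a (MvPolynomial.algebraTensorAlgEquiv k F (f ⊗ₜ[k] (1 : MvPolynomial (Fin (n + 1)) k))) = C f
      rw [MvPolynomial.algebraTensorAlgEquiv_tmul, map_one, smul_eq_C_mul, mul_one, algHom_C, algebraMap_eq]
    rw [Ideal.Quotient.eq_zero_iff_mem.mpr h2, map_zero] at h3
    exact hf (C_injective _ _ (by rw [← h3, map_zero]))

theorem b_ne_zero [IsDomain F] (m : Fin (n + 1)) (a : Fin (n + 1) → F) (hm : a m = 1) : b k n a ≠ 0 := by
  let _ : Algebra (F ⊗[k] MvPolynomial (Fin (n + 1)) k) (F ⊗[k] Gen k n) := (toLoc k n F).toRingHom.toAlgebra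
  have hloc := isLocalization k n F
  have hdom : IsDomain (F ⊗[k] MvPolynomial (Fin (n + 1)) k) :=
    (MvPolynomial.algebraTensorAlgEquiv k F).toRingEquiv.toMulEquiv.isDomain _
  have hle : S k n F ≤ nonZeroDivisors (F ⊗[k] MvPolynomial (Fin (n + 1)) k) := by
    rintro _ ⟨p, hp, rfl⟩
    rw [mem_nonZeroDivisors_iff_ne_zero]
    intro h
    have hinj : Function.Injective (Algebra.TensorProduct.includeRight :
        MvPolynomial (Fin (n + 1)) k →ₐ[k] F ⊗[k] MvPolynomial (Fin (n + 1)) k) :=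
      Algebra.TensorProduct.includeRight_injective (algebraMap k F).injective
    exact nonZeroDivisors.ne_zero hp (hinj (by rw [map_zero]; exact h))
  have hinj := IsLocalization.injective (F ⊗[k] Gen k n) hle
  intro h
  have h1 : algebraMap (F ⊗[k] MvPolynomial (Fin (n + 1)) k) (F ⊗[k] Gen k n) (x0 k n a) = 0 := by
    rw [← h, ← toLoc_x0]; rfl
  have h2 : x0 k n a = 0 := hinj (by rw [h1, map_zero])
  have h3 := equiv_x0 k n a
  rw [h2, map_zero] at h3
  exact lf_ne_zero m a hm h3.symm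

/-- `F ⊗ Gen k n` is a domain. -/
theorem isDomain_tensor [IsDomain F] : IsDomain (F ⊗[k] Gen k n) := by
  let _ : Algebra (F ⊗[k] MvPolynomial (Fin (n + 1)) k) (F ⊗[k] Gen k n) := (toLoc k n F).toRingHom.toAlgebra
  have hloc := isLocalization k n F
  have hdom : IsDomain (F ⊗[k] MvPolynomial (Fin (n + 1)) k) :=
    (MvPolynomial.algebraTensorAlgEquiv k F).toRingEquiv.toMulEquiv.isDomain _
  have hle : S k n F ≤ nonZeroDivisors (F ⊗[k] MvPolynomial (Fin (n + 1)) k) := by
    rintro _ ⟨p, hp, rfl⟩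
    rw [mem_nonZeroDivisors_iff_ne_zero]
    intro h
    have hinj : Function.Injective (Algebra.TensorProduct.includeRight :
        MvPolynomial (Fin (n + 1)) k →ₐ[k] F ⊗[k] MvPolynomial (Fin (n + 1)) k) :=
      Algebra.TensorProduct.includeRight_injective (algebraMap k F).injective
    exact nonZeroDivisors.ne_zero hp (hinj (by rw [map_zero]; exact h))
  exact IsLocalization.isDomain_of_le_nonZeroDivisors _ hle

/-- The quotient is a normal ring. -/
theorem isNormalRing_quot [IsDomain F] [IsIntegrallyClosed F] (m : Fin (n + 1)) (a : Fin (n + 1) → F) (hm : a m = 1) :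
    EGA4.IsNormalRing ((F ⊗[k] Gen k n) ⧸ Ideal.span {b k n a}) := by
  let _ : Algebra (F ⊗[k] MvPolynomial (Fin (n + 1)) k) (F ⊗[k] Gen k n) := (toLoc k n F).toRingHom.toAlgebra
  have hloc := isLocalization k n F
  have hN : EGA4.IsNormalRing ((F ⊗[k] MvPolynomial (Fin (n + 1)) k) ⧸ Ideal.span {x0 k n a}) := by
    have h1 := Ega43.NormalOpen.isIntegrallyClosed_mvPolynomial F n
    have h2 := K125.PolyUnibranch.isNormalRing_of_isIntegrallyClosed (MvPolynomial (Fin n) F)
    have : IsDomain ((F ⊗[k] MvPolynomial (Fin (n + 1)) k) ⧸ Ideal.span {x0 k n a}) :=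
      (quotEquiv0 k n m a hm).toMulEquiv.isDomain _
    have : IsIntegrallyClosed ((F ⊗[k] MvPolynomial (Fin (n + 1)) k) ⧸ Ideal.span {x0 k n a}) :=
      IsIntegrallyClosed.of_equiv (quotEquiv0 k n m a hm).symm
    exact K125.PolyUnibranch.isNormalRing_of_isIntegrallyClosed _
  rw [← map_span]
  exact Ega4C.NormalRing2.isNormalRing_of_isLocalization hN
    (Algebra.algebraMapSubmonoid ((F ⊗[k] MvPolynomial (Fin (n + 1)) k) ⧸ Ideal.span {x0 k n a}) (S k n F)) _

end

section push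

variable {k : Type u} [Field k] {n : ℕ}

variable {A P : CommRingCat.{u}} {α : CommRingCat.of k ⟶ A} {inl : A ⟶ P}
  {inr : CommRingCat.of (Gen k n) ⟶ P}
  (h : IsPushout α (CommRingCat.ofHom (algebraMap k (Gen k n))) inl inr)

include h in
theorem exists_equiv : ∃ (_ : Algebra k A) (e : (A ⊗[k] Gen k n) ≃+* P),
    (∀ x : A, e (x ⊗ₜ 1) = inl x) ∧ ∀ y : Gen k n, e (1 ⊗ₜ y) = inr y := by
  let _ : Algebra k A := α.hom.toAlgebra
  have h' := CommRingCat.isPushout_tensorProduct k A (Gen k n)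
  have ha : CommRingCat.ofHom (algebraMap k A) = α := rfl
  rw [ha] at h'
  refine ⟨inferInstance, (h'.isoIsPushout _ _ h).commRingCatIsoToRingEquiv, fun x => ?_, fun y => ?_⟩
  · exact congr($(h'.inl_isoIsPushout_hom _ _ h).hom x)
  · exact congr($(h'.inr_isoIsPushout_hom _ _ h).hom y)

/-- The equation in `P`. -/
noncomputable def bP (inl : A ⟶ P) (inr : CommRingCat.of (Gen k n) ⟶ P) (a : Fin (n + 1) → A) : P :=
  ∑ j, inl (a j) * inr (t k n j)

theorem e_b {_ : Algebra k A} (e : (A ⊗[k] Gen k n) ≃+* P) (h1 : ∀ x : A, e (x ⊗ₜ 1) = inl x)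
    (h2 : ∀ y : Gen k n, e (1 ⊗ₜ y) = inr y) (a : Fin (n + 1) → A) : e (b k n a) = bP inl inr a := by
  rw [b, bP, map_sum]
  refine Finset.sum_congr rfl fun j _ => ?_
  rw [← h1, ← h2, ← map_mul, Algebra.TensorProduct.tmul_mul_tmul, mul_one, one_mul]

theorem e_span {_ : Algebra k A} (e : (A ⊗[k] Gen k n) ≃+* P) (h1 : ∀ x : A, e (x ⊗ₜ 1) = inl x)
    (h2 : ∀ y : Gen k n, e (1 ⊗ₜ y) = inr y) (a : Fin (n + 1) → A) :
    Ideal.span {bP inl inr a} = Ideal.map (e : (A ⊗[k] Gen k n) →+* P) (Ideal.span {b k n a}) := by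
  rw [Ideal.map_span, Set.image_singleton, ← e_b e h1 h2 a]
  rfl

include h

theorem push_top_or_prime [IsDomain A] (m : Fin (n + 1)) (a : Fin (n + 1) → A) (hm : a m = 1) :
    Ideal.span {bP inl inr a} = ⊤ ∨ (Ideal.span {bP inl inr a}).IsPrime := by
  obtain ⟨_, e, h1, h2⟩ := exists_equiv h
  rw [e_span e h1 h2]
  rcases top_or_prime k n m a hm with h5 | h5
  · left
    rw [h5, Ideal.map_top]
  · right
    exact Ideal.map_isPrime_of_equiv e

theorem push_ne_zero [IsDomain A] (m : Fin (n + 1)) (a : Fin (n + 1) → A) (hm : a m = 1) : bP inl inr a ≠ 0 := by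
  obtain ⟨_, e, h1, h2⟩ := exists_equiv h
  rw [← e_b e h1 h2]
  intro h4
  exact b_ne_zero k n m a hm (e.injective (by rw [h4, map_zero]))

theorem push_not_mem [IsDomain A] (m : Fin (n + 1)) (a : Fin (n + 1) → A) (hm : a m = 1)
    (hne : Ideal.span {bP inl inr a} ≠ ⊤) (f : A) (hf : f ≠ 0) : inl f ∉ Ideal.span {bP inl inr a} := by
  obtain ⟨_, e, h1, h2⟩ := exists_equiv h
  rw [e_span e h1 h2] at hne ⊢
  have h3 : Ideal.span {b k n a} ≠ ⊤ := fun h => hne (by rw [h, Ideal.map_top])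
  have h4 := not_mem k n m a hm h3 f hf
  intro hmem
  apply h4
  rw [← h1] at hmem
  obtain ⟨x, hx, hxe⟩ := (Ideal.mem_map_of_equiv e _).mp hmem
  rwa [e.injective hxe] at hx

theorem push_isNormalRing [IsDomain A] [IsIntegrallyClosed A] (m : Fin (n + 1)) (a : Fin (n + 1) → A) (hm : a m = 1) :
    EGA4.IsNormalRing (P ⧸ Ideal.span {bP inl inr a}) := by
  obtain ⟨_, e, h1, h2⟩ := exists_equiv h
  have h3 := isNormalRing_quot k n m a hm
  refine S2070.isNormalRing_of_ringEquiv ?_ h3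
  exact Ideal.quotientEquiv _ _ e (e_span e h1 h2 a)

end push

end K987.GenAlg
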