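import Groth.Agent.Pic13.K987.GenX
import Groth.Agent.Pic13.K243.Base
import Groth.Agent.CohqB.ProjBC
import Groth.Agent.Ega3A.PChart
import Groth.Agent.Picfga.ChiBC
import Groth.Agent.Sga67.CohBasic
import Groth.Agent.S0034
import Groth.Agent.CurvesC.DegIso

/-!
# The extension `K = k(t_0, …, t_n)` of a closed subscheme of projective space

`iG : X_K ⟶ P^n_K`, twists and cohomology.
-/

set_option autoImplicit false
universe u
open CategoryTheory CategoryTheory.Limits AlgebraicGeometry Opposite TopologicalSpace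

namespace K987.GenImm

open Groth.Agent Groth.Agent.Fdesc.LocGen K987.GenAlg K987.GenX Groth.Agent.CohqB.ProjBC

variable (k : Type u) [Field k] (n : ℕ) {X : Scheme.{u}} [X.Over (Spec (CommRingCat.of k))]

section coh

variable [IsProper (X ↘ Spec (CommRingCat.of k))]

theorem finrank_HH (F : X.Modules) (hF : Coh.IsQCoh F) (q : ℕ) :
    Module.finrank (Gen k n) (Coh.HH (XG k n X) ((Scheme.Modules.pullback (pr k n X)).obj F) q) =
      Module.finrank k (Coh.HH X F q) := by
  have h1 : CompactSpace X := QuasiCompact.compactSpace_of_compactSpace (X ↘ Spec (CommRingCat.of k))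
  have h2 : QuasiSeparatedSpace X := quasiSeparatedSpace_of_quasiSeparated (X ↘ Spec (CommRingCat.of k))
  obtain ⟨e⟩ := Groth.Agent.S0034.result k (Gen k n) X (XG k n X) (pr k n X) (isPullback k n X) F q
  rw [← e.finrank_eq, Module.finrank_baseChange]

theorem euler_pull (F : X.Modules) (hF : Coh.IsQCoh F) (d : ℕ) :
    FGA.eulerCharLE (Gen k n) (XG k n X) ((Scheme.Modules.pullback (pr k n X)).obj F) d =
      FGA.eulerCharLE k X F d := by
  have h1 : CompactSpace X := QuasiCompact.compactSpace_of_compactSpace (X ↘ Spec (CommRingCat.of k))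
  have h2 : QuasiSeparatedSpace X := quasiSeparatedSpace_of_quasiSeparated (X ↘ Spec (CommRingCat.of k))
  exact Picfga.ChiBC.eulerCharLE_pullback k X (Gen k n) (XG k n X) (pr k n X) (σ k n) (isPullback k n X) F hF d

end coh

variable (i : X ⟶ CohB1.ProjSpace n k) (hi : i ≫ CohB1.ProjSpace.toSpec n k = X ↘ Spec (CommRingCat.of k))

/-- `X_K ⟶ P^n_K`. -/
noncomputable def iG : XG k n X ⟶ CohB1.ProjSpace n (Gen k n) :=
  (isPullback_pmap (algebraMap k (Gen k n)) n).lift (pr k n X ≫ i)
    (XG k n X ↘ Spec (CommRingCat.of (Gen k n))) (by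
      rw [Category.assoc, hi]
      exact (isPullback k n X).w)

theorem iG_pmap : iG k n i hi ≫ pmap (algebraMap k (Gen k n)) n = pr k n X ≫ i :=
  (isPullback_pmap (algebraMap k (Gen k n)) n).lift_fst _ _ _

theorem iG_toSpec : iG k n i hi ≫ CohB1.ProjSpace.toSpec n (Gen k n) = XG k n X ↘ Spec (CommRingCat.of (Gen k n)) :=
  (isPullback_pmap (algebraMap k (Gen k n)) n).lift_snd _ _ _

theorem isPullback_iG : IsPullback (pr k n X) (iG k n i hi) i (pmap (algebraMap k (Gen k n)) n) := by
  refine IsPullback.of_bot ?_ (iG_pmap k n i hi).symm (isPullback_pmap (algebraMap k (Gen k n)) n)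
  rw [iG_toSpec, hi]
  exact isPullback k n X

instance [IsClosedImmersion i] : IsClosedImmersion (iG k n i hi) :=
  MorphismProperty.of_isPullback (P := @IsClosedImmersion) (isPullback_iG k n i hi) inferInstance

/-- `pr^* O_X(d) ≅ O_{X_K}(d)`. -/
noncomputable def pullO (d : ℤ) : (Scheme.Modules.pullback (pr k n X)).obj (K243.Base.O i d) ≅
    K243.Base.O (iG k n i hi) d :=
  (Scheme.Modules.pullbackComp (pr k n X) i).app _ ≪≫
    (Scheme.Modules.pullbackCongr (iG_pmap k n i hi).symm).app _ ≪≫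
    ((Scheme.Modules.pullbackComp (iG k n i hi) (pmap (algebraMap k (Gen k n)) n)).app _).symm ≪≫
    (Scheme.Modules.pullback (iG k n i hi)).mapIso (Ega3A.PChart.pullTwistIso (algebraMap k (Gen k n)) n d)

/-- `pr^* (L(d)) ≅ (pr^* L)(d)`. -/
theorem nonempty_pull_twistOn {L : X.Modules} (hL : PicF.IsInvertible L) (d : ℤ) :
    Nonempty ((Scheme.Modules.pullback (pr k n X)).obj (Pic13.twistOn k i L d) ≅
      Pic13.twistOn (Gen k n) (iG k n i hi) ((Scheme.Modules.pullback (pr k n X)).obj L) d) :=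
  ⟨Ega3B.PullTensor.pullTensorIso (pr k n X) hL (K243.Base.isInvertible_O i d) ≪≫
    Ega2.Tens.mapTIso (Iso.refl _) (pullO k n i hi d)⟩

variable [IsProper (X ↘ Spec (CommRingCat.of k))]

theorem finrank_twistOn {L : X.Modules} (hL : PicF.IsInvertible L) (d : ℤ) (q : ℕ) :
    Module.finrank (Gen k n) (Coh.HH (XG k n X)
      (Pic13.twistOn (Gen k n) (iG k n i hi) ((Scheme.Modules.pullback (pr k n X)).obj L) d) q) =
      Module.finrank k (Coh.HH X (Pic13.twistOn k i L d) q) := by
  obtain ⟨e⟩ := nonempty_pull_twistOn k n i hi hL d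
  rw [← finrank_HH k n _ (Ega2.QCohLocal.isQCoh_of_isInvertible (K243.Base.isInvertible_twistOn i hL d)) q]
  exact (Groth.Agent.CurvesC.DegIso.finrank_congr (Gen k n) e q).symm

theorem euler_twistOn {L : X.Modules} (hL : PicF.IsInvertible L) (d : ℤ) (m : ℕ) :
    FGA.eulerCharLE (Gen k n) (XG k n X)
      (Pic13.twistOn (Gen k n) (iG k n i hi) ((Scheme.Modules.pullback (pr k n X)).obj L) d) m =
      FGA.eulerCharLE k X (Pic13.twistOn k i L d) m := by
  obtain ⟨e⟩ := nonempty_pull_twistOn k n i hi hL d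
  rw [← euler_pull k n _ (Ega2.QCohLocal.isQCoh_of_isInvertible (K243.Base.isInvertible_twistOn i hL d)) m]
  exact (Fga.EulerIso.eulerCharLE_congr (Gen k n) e m).symm

end K987.GenImm
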