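import Groth.Agent.Pic13.K987.GenTop
import Groth.Agent.Pic13.K243.Coeffs
import Groth.Agent.Pic13.K244.RegSeq
import Groth.Agent.Sga2.PnResStalk
import Groth.Agent.CalgA.SerreLocal
import Groth.Agent.CalgA.DepthSmall
import Groth.Agent.Fga.DimCut
import Groth.Agent.S0458
import Groth.Agent.S7680
import Groth.Agent.HypSq.K980.PicNum

/-!
# Cohomology of invertible modules on a normal closed subscheme of `P^n`: basic facts
-/

set_option autoImplicit false
universe u
open CategoryTheory CategoryTheory.Limits AlgebraicGeometry Opposite TopologicalSpace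

namespace K987.GenLev

open Groth.Agent Groth.Agent.Fdesc.LocGen K243.Diff

variable (k : Type u) [Field k] (n : ℕ) {X : Scheme.{u}} (i : X ⟶ CohB1.ProjSpace n k)
  [X.Over (Spec (CommRingCat.of k))] [IsClosedImmersion i]
  (hi : i ≫ CohB1.ProjSpace.toSpec n k = X ↘ Spec (CommRingCat.of k))
  {L : X.Modules} (hL : PicF.IsInvertible L)

/-- `h^q(L(t))`. -/
noncomputable abbrev hh (L : X.Modules) (q : ℕ) (t : ℤ) : ℕ := Module.finrank k (Coh.HH X (Pic13.twistOn k i L t) q)

include hi in
/-- `dim_k H^q(X, F(d)) = dim_k H^q(P^n, (i_* F)(d))`. -/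
theorem finrank_hh (F : X.Modules) (d : ℤ) (q : ℕ) :
    hh k n i F q d = Module.finrank k (K244.RegSeq.H k n ((Scheme.Modules.pushforward i).obj F) d q) :=
  ((CurvesC.CurveNum.hhPushₗ k i hi (Pic13.twistOn k i F d) q).trans
    (Fga.PicMon.hmapEquiv k (CohB1.ProjSpace n k) (Groth.Agent.Pic13.H951.PresentX.pushTwist k i F d) q)).finrank_eq

theorem isCoh_of_inv (hL : PicF.IsInvertible L) : Coh.IsCoh L := K243.Hilb.isCoh_invertible hL

omit [X.Over (Spec (CommRingCat.of k))] in
include hL in
theorem isCoh_push : Coh.IsCoh ((Scheme.Modules.pushforward i).obj L) :=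
  Groth.Agent.Pic13.H951.PresentX.isCoh_push k i (isCoh_of_inv hL)

include hi hL in
/-- Serre vanishing. -/
theorem serre : ∃ t₀ : ℤ, ∀ t : ℤ, t₀ ≤ t → ∀ q : ℕ, 1 ≤ q → hh k n i L q t = 0 := by
  obtain ⟨t₀, h⟩ := Fga.MumInputs.serre k n _ (isCoh_push k n i hL)
  refine ⟨t₀, fun t ht q hq => ?_⟩
  rw [finrank_hh k n i hi]
  have := h t ht q hq
  exact Module.finrank_zero_of_subsingleton

include hi hL in
theorem finite_hh (q : ℕ) (t : ℤ) : Module.Finite k (Coh.HH X (Pic13.twistOn k i L t) q) := by
  have hp := K243.Base.isProper_of i hi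
  exact Groth.Agent.S0002.result k X _ (isCoh_of_inv (K243.Base.isInvertible_twistOn i hL t)) q

include hi in
/-- Vanishing above the dimension. -/
theorem dim_van (j : ℕ) (hd : topologicalKrullDim X ≤ j) (F : X.Modules) (q : ℕ) (hq : j < q) (t : ℤ) :
    hh k n i F q t = 0 := by
  have hp := K243.Base.isProper_of i hi
  have := Fga.IntAdd.isNoetherian k X
  have : TopologicalSpace.NoetherianSpace X.toTopCat := inferInstanceAs (TopologicalSpace.NoetherianSpace X)
  have h : Subsingleton (Coh.HH X (Pic13.twistOn k i F t) q) :=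
    S0458.result (X := X.toTopCat) j hd (Coh.toAb (Pic13.twistOn k i F t)) q hq
  exact Module.finrank_zero_of_subsingleton

omit [X.Over (Spec (CommRingCat.of k))] [IsClosedImmersion i] in
theorem o_pow (m : ℕ) : K243.Base.o i (-1) ^ m = K243.Base.o i (-(m : ℤ)) := by
  induction m with
  | zero => rw [pow_zero, Nat.cast_zero, neg_zero, K243.Base.o_zero]
  | succ m ih =>
    rw [pow_succ, ih, ← K243.Base.o_add]
    congr 1
    push_cast
    ring

include hi hL in
/-- Enriques–Severi–Zariski. -/
theorem esz [IsIntegral X] (hX : Pi1.IsNormalScheme X) (hd : (2 : WithBot ℕ∞) ≤ topologicalKrullDim X) :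
    ∃ t₀ : ℤ, ∀ t : ℤ, t ≤ t₀ → hh k n i L 1 t = 0 := by
  have hp := K243.Base.isProper_of i hi
  have hN := Fga.IntAdd.isNoetherian k X
  obtain ⟨m₀, h⟩ := Groth.Agent.S7680.result k X (K243.Base.O i 1) (K243.Base.isAmple_O i) (K243.Base.O i (-1))
    (K243.Base.nonempty_O_mul_neg i 1) L (isCoh_of_inv hL) (fun x hx => by
      have hdom := (hX x).1
      have hic := (hX x).2
      have h1 : ringKrullDim (X.presheaf.stalk x) = topologicalKrullDim X := Fga.DimCut.ringKrullDim_stalk_eq k X x hx
      have h2 : ¬ ringKrullDim (X.presheaf.stalk x) ≤ 1 := by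
        rw [h1, not_le]
        refine lt_of_lt_of_le ?_ hd
        have : ((1 : ℕ∞) : WithBot ℕ∞) < ((2 : ℕ∞) : WithBot ℕ∞) := by
          rw [WithBot.coe_lt_coe]
          norm_num
        exact this
      have h3 := CalgA.SerreLocal.two_le_depth_of_isIntegrallyClosed h2
      obtain ⟨e⟩ := Sga2.PnRes.exists_stalkEquiv_of_isInvertible hL x
      rwa [CalgA.DepthSmall.depth_congr e] at h3)
  refine ⟨-(m₀ : ℤ), fun t ht => ?_⟩
  obtain ⟨m, rfl⟩ : ∃ m : ℕ, t = -(m : ℤ) := ⟨(-t).toNat, by omega⟩
  have h1 := h m (by omega)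
  have h2 : Fga.PicMon.mc (CohB1.tensorMod L (CohB1.tensorPow (K243.Base.O i (-1)) m)) =
      Fga.PicMon.mc (Pic13.twistOn k i L (-(m : ℤ))) := by
    rw [Fga.PicMon.mc_tensor, K243.Base.mc_twistOn, Fga.PicMon.mc_tensorPow, K243.Base.mc_O, o_pow]
  obtain ⟨e⟩ := (Fga.PicMon.mc_eq_iff _ _).mp h2
  have h3 : Subsingleton (Coh.HH X (Pic13.twistOn k i L (-(m : ℤ))) 1) :=
    (K980.PicNum.subsingleton_congr e 1).mp h1
  exact Module.finrank_zero_of_subsingleton

section neg

open Groth.Agent.Fga.PicMon K243.Hilb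

variable [IsIntegral X] (s : ℕ) (hdim : topologicalKrullDim X = ((s + 1 : ℕ) : WithBot ℕ∞))

omit [IsIntegral X] in
include hi hL hdim in
/-- The iterated difference `nab^[s] (hf L)` is strictly increasing. -/
theorem strictMono_nab : StrictMono (nab^[s] (hf k i (s + 1) L)) := by
  have hp := K243.Base.isProper_of i hi
  refine strictMono_int_of_lt_succ fun t => ?_
  have h1 := Fga.PosMain.intNum_pos k X (s + 1) hdim.le
    (r := s + 1) (fun _ => K243.Base.O i 1) (fun _ => K243.Base.O i (-1))
    (fun _ => K243.Base.isAmple_O i) (fun _ => K243.Base.nonempty_O_mul_neg i 1)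
    (Pic13.twistOn k i L (t + 1)) (isCoh_of_inv (K243.Base.isInvertible_twistOn i hL _)) (by
      rw [dim_support_invertible (K243.Base.isInvertible_twistOn i hL _), hdim])
  rw [intNum_const, Function.iterate_succ_apply', nab_apply, add_sub_cancel_right] at h1
  linarith

include hi hL hdim in
/-- No sections in negative degrees, if the degree of `L` is nonpositive. -/
theorem neg (hdeg : nab^[s] (hf k i (s + 1) L) 0 ≤ nab^[s] (hf k i (s + 1) (Coh.structureModule X)) 0) (t : ℤ)
    (ht : t < 0) : hh k n i L 0 t = 0 := by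
  have hp := K243.Base.isProper_of i hi
  have hT := K243.Base.isInvertible_twistOn i hL t
  obtain ⟨T', hT', ⟨e⟩⟩ := Grpsch.PicGrp.exists_inverse hT
  have hO := K243.Coeffs.isInvertible_unit (X := X)
  have hsub : Subsingleton (Coh.HH X (Pic13.twistOn k i L t) 0) := by
    refine K243.NoSec.subsingleton_of_neg k X s hdim hT ⟨e⟩ (fun _ => K243.Base.O i 1)
      (fun _ => K243.Base.O i (-1)) (fun _ => K243.Base.isAmple_O i) (fun _ => K243.Base.nonempty_O_mul_neg i 1) ?_
    have h1 : FGA.intNum k X (s + 1) (Fin.cons T' (fun _ => K243.Base.O i (-1)) : Fin (s + 1) → X.Modules)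
        (Coh.structureModule X) = FGA.intNum k X (s + 1)
          (Fin.cons T' (fun _ => K243.Base.O i (-1)) : Fin (s + 1) → X.Modules) (Pic13.twistOn k i L t) := by
      rw [← intNum_invariant k (s + 1) hdim.le (Fin.cons T' (fun _ : Fin s => K243.Base.O i (-1)) :
          Fin (s + 1) → X.Modules) (fun j => by
        cases j using Fin.cases with
        | zero => exact hT'
        | succ j => exact K243.Base.isInvertible_O i (-1))
        (Coh.structureModule X) (isCoh_invertible hO) (by
          rw [dim_support_invertible hO, hdim]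
          exact_mod_cast Nat.lt_succ_self (s + 1)) hT]
      exact intNum_congr_mc k (s + 1) _ (by rw [mc_tensor, mc_one, mul_one])
    have h2 : FGA.intNum k X (s + 1) (fun _ : Fin s => K243.Base.O i (-1))
        (CohB1.tensorMod T' (Pic13.twistOn k i L t)) =
        FGA.intNum k X (s + 1) (fun _ : Fin s => K243.Base.O i (-1)) (Coh.structureModule X) :=
      intNum_congr_mc k (s + 1) _ (by
        rw [mc_tensor, mul_comm, ← mc_tensor]
        exact mc_eq e)
    rw [h1, intNum_cons, h2, intNum_const, intNum_const_zero]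
    have h3 := strictMono_nab k n i hi hL s hdim ht
    linarith
  exact Module.finrank_zero_of_subsingleton

end neg

end K987.GenLev
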