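import Groth.Agent.Pic13.K987.GenTop
import Groth.Agent.Pic13.K244.RegSeq
import Groth.Agent.CurvesC.InvSec
import Groth.Agent.S2303

/-!
# Multiplication by a variable is injective on `j_* M` for `j : Y ⟶ P^n` closed, `Y` integral and not in `V(X_i)`
-/

set_option autoImplicit false
universe u
open CategoryTheory CategoryTheory.Limits AlgebraicGeometry Opposite TopologicalSpace

namespace K987.GenMono

open Groth.Agent Groth.Agent.Fdesc.LocGen Groth.Agent.Fga.TwistGr Groth.Agent.Fga.HShift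

/-- Sections of an invertible module on an integral scheme inject into smaller opens. -/
theorem inj_res {Y P : Scheme.{u}} [IsIntegral Y] (j : Y ⟶ P) {M : Y.Modules} (hM : PicF.IsInvertible M)
    {F : P.Modules} (e : F ≅ (Scheme.Modules.pushforward j).obj M) (D W : P.Opens) (hD : (j ⁻¹ᵁ D : Set Y).Nonempty)
    (v : Γ(F, W)) (hv : F.presheaf.map (homOfLE (inf_le_left : W ⊓ D ≤ W)).op v = 0) : v = 0 := by
  have hinj : Function.Injective (e.hom.app W) := by
    intro a b hab
    have h1 := congrArg (fun ψ : F ⟶ F => ψ.app W a) e.hom_inv_id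
    have h2 := congrArg (fun ψ : F ⟶ F => ψ.app W b) e.hom_inv_id
    change e.inv.app W (e.hom.app W a) = a at h1
    change e.inv.app W (e.hom.app W b) = b at h2
    rw [← h1, ← h2, hab]
  apply hinj
  rw [map_zero]
  have h3 : ((Scheme.Modules.pushforward j).obj M).presheaf.map (homOfLE (inf_le_left : W ⊓ D ≤ W)).op
      (e.hom.app W v) = 0 := by
    have h4 := ConcreteCategory.congr_hom ((Scheme.Modules.toPresheaf P).map e.hom |>.naturality
      (homOfLE (inf_le_left : W ⊓ D ≤ W)).op) v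
    have h5 : ((Scheme.Modules.pushforward j).obj M).presheaf.map (homOfLE (inf_le_left : W ⊓ D ≤ W)).op
      (e.hom.app W v) = e.hom.app (W ⊓ D) (F.presheaf.map (homOfLE (inf_le_left : W ⊓ D ≤ W)).op v) := h4.symm
    rw [h5, hv, map_zero]
  by_cases hW : (j ⁻¹ᵁ W : Set Y).Nonempty
  · have h6 : (j ⁻¹ᵁ (W ⊓ D) : Set Y).Nonempty :=
      nonempty_preirreducible_inter (j ⁻¹ᵁ W).isOpen (j ⁻¹ᵁ D).isOpen hW hD
    exact CurvesC.InvSec.eq_zero_of_res_eq_zero hM (W := j ⁻¹ᵁ W) (V := j ⁻¹ᵁ (W ⊓ D))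
      (fun y hy => hy.1) h6 (e.hom.app W v) h3
  · exact CurvesC.InvSec.section_eq_of_locally_eq (L := M) (W := j ⁻¹ᵁ W) (e.hom.app W v) 0
      fun x hx => absurd ⟨x, hx⟩ hW

variable (K : Type u) [Field K] (n : ℕ)

theorem mono_x {Y : Scheme.{u}} [IsIntegral Y] (j : Y ⟶ CohB1.ProjSpace n K) [IsClosedImmersion j]
    {M : Y.Modules} (hM : PicF.IsInvertible M) {C : (CohB1.ProjSpace n K).Modules}
    (e : C ≅ (Scheme.Modules.pushforward j).obj M) (i₀ : Fin (n + 1)) (hi₀ : ∃ y : Y, j y ∈ dplus n K i₀) (t : ℤ) :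
    Mono ((grF C).x i₀ t) := by
  have e' : CohB1.tensorMod C (Twist.twistProjSpace n K t) ≅
      (Scheme.Modules.pushforward j).obj (Pic13.twistOn K j M t) :=
    (DCoh.tensorRightMod (Twist.twistProjSpace n K t)).mapIso e ≪≫
      (Pic13.H951.PresentX.pushTwist K j M t).symm
  have hN : PicF.IsInvertible (Pic13.twistOn K j M t) := K243.Base.isInvertible_twistOn j hM t
  refine S2303.mono_of_injective _ fun W => ?_
  rw [injective_iff_map_eq_zero]
  intro v hv
  refine inj_res j hN e' (dplus n K i₀) W hi₀ v ?_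
  apply (grF_x_app_bijective C i₀ t (W ⊓ dplus n K i₀) inf_le_right).1
  refine Eq.trans ?_ (map_zero (((grF C).x i₀ t).app (W ⊓ dplus n K i₀)).hom).symm
  have h4 := ConcreteCategory.congr_hom ((Scheme.Modules.toPresheaf _).map ((grF C).x i₀ t) |>.naturality
      (homOfLE (inf_le_left : W ⊓ dplus n K i₀ ≤ W)).op) v
  refine Eq.trans h4 ?_
  have h5 : ((grF C).obj (t + 1)).presheaf.map
      (homOfLE (inf_le_left : W ⊓ dplus n K i₀ ≤ W)).op (((grF C).x i₀ t).app W v) = 0 := by
    rw [hv, map_zero]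
  exact h5

theorem exists_mono {Y : Scheme.{u}} [IsIntegral Y] (j : Y ⟶ CohB1.ProjSpace n K) [IsClosedImmersion j]
    {M : Y.Modules} (hM : PicF.IsInvertible M) {C : (CohB1.ProjSpace n K).Modules}
    (e : C ≅ (Scheme.Modules.pushforward j).obj M) : ∃ i₀ : Fin (n + 1), ∀ t, Mono ((grF C).x i₀ t) := by
  obtain ⟨i₀, h⟩ := exists_mem_dplus (R := K) (j (genericPoint Y))
  exact ⟨i₀, fun t => mono_x K n j hM e i₀ ⟨_, h⟩ t⟩

end K987.GenMono
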