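import Groth.Agent.Pic13.K987.GenX
import Groth.Agent.Pic13.H956.GenMem
import Groth.Agent.Pi1C.ZeroScheme
import Groth.Agent.An.H526.T3Norm
import Groth.Agent.S0288
import Groth.Agent.ArSurf.K480.GGCurve

/-!
# The generic hyperplane section: schemes

`X` integral and proper over `k`, `s_0, …, s_n` sections of an invertible module `N` whose nonvanishing loci are affine
and cover `X`.  The zero scheme of `∑ t_j s_j` on `X ×_k k(t_0, …, t_n)` is integral and normal (if not empty).
-/

set_option autoImplicit false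
universe u
open CategoryTheory CategoryTheory.Limits AlgebraicGeometry Opposite TopologicalSpace

namespace K987.GenSch

open Groth.Agent Groth.Agent.Fdesc.LocGen K987.GenAlg K987.GenX

/-- Gluing irreducible pieces. -/
theorem isPreirreducible_of_cover {T : Type u} [TopologicalSpace T] (Z : Set T) {ι : Type} (V : ι → Set T)
    (hV : ∀ i, IsOpen (V i)) (hcov : ∀ z ∈ Z, ∃ i, z ∈ V i) (hpre : ∀ i, IsPreirreducible (Z ∩ V i))
    (hmeet : ∀ i j, (Z ∩ V i).Nonempty → (Z ∩ V j).Nonempty → (Z ∩ V i ∩ V j).Nonempty) : IsPreirreducible Z := by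
  rintro A B hA hB ⟨x, hxZ, hxA⟩ ⟨y, hyZ, hyB⟩
  obtain ⟨i, hi⟩ := hcov x hxZ
  obtain ⟨j, hj⟩ := hcov y hyZ
  obtain ⟨z, ⟨hz1, hz2⟩, hz3⟩ := hmeet i j ⟨x, hxZ, hi⟩ ⟨y, hyZ, hj⟩
  obtain ⟨w, ⟨hw1, hw2⟩, hw3, hw4⟩ := hpre i A (V j) hA (hV j) ⟨x, ⟨hxZ, hi⟩, hxA⟩ ⟨z, ⟨hz1, hz2⟩, hz3⟩
  obtain ⟨v, ⟨hv1, hv2⟩, hv3, hv4⟩ := hpre j A B hA hB ⟨w, ⟨hw1, hw4⟩, hw3⟩ ⟨y, ⟨hyZ, hj⟩, hyB⟩
  exact ⟨v, hv1, hv3, hv4⟩

variable (k : Type u) [Field k] (n : ℕ) {X : Scheme.{u}} [X.Over (Spec (CommRingCat.of k))]
  {N : X.Modules} (hN : PicF.IsInvertible N) (s : Fin (n + 1) → (Coh.structureModule X ⟶ N))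
  (haff : ∀ m, IsAffineOpen (CohB1.genLocus N (s m))) (hcov : ∀ x : X, ∃ m, x ∈ CohB1.genLocus N (s m))

/-- The nonvanishing locus of `s_m`, upstairs. -/
noncomputable abbrev V (m : Fin (n + 1)) : (XG k n X).Opens := pr k n X ⁻¹ᵁ CohB1.genLocus N (s m)

include haff in
theorem isAffineOpen_V (m : Fin (n + 1)) : IsAffineOpen (V k n s m) := (haff m).preimage (pr k n X)

omit [X.Over (Spec (CommRingCat.of k))] in
/-- Ratios of the sections over the nonvanishing locus of `s_m`. -/
theorem exists_ratio (m : Fin (n + 1)) : ∃ f : Fin (n + 1) → Γ(X, CohB1.genLocus N (s m)), f m = 1 ∧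
    (∀ j, sec (s j) (CohB1.genLocus N (s m)) = f j • sec (s m) (CohB1.genLocus N (s m))) ∧
    ∀ j, CohB1.genLocus N (s j) ⊓ CohB1.genLocus N (s m) = X.basicOpen (f j) := by
  have hgen : IsGen (sec (s m) (CohB1.genLocus N (s m))) := isGen_sec_genLocus (s m)
  choose f hf using fun j => hgen.exists_eq (sec (s j) (CohB1.genLocus N (s m)))
  refine ⟨Function.update f m 1, Function.update_self _ _ _, ?_, ?_⟩
  · intro j
    by_cases h : j = m
    · subst h
      rw [Function.update_self, one_smul]
    · rw [Function.update_of_ne h]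
      exact hf j
  · intro j
    refine genLocus_inf_eq (s j) hgen ?_
    by_cases h : j = m
    · subst h
      rw [Function.update_self, one_smul]
    · rw [Function.update_of_ne h]
      exact hf j

/-- The chart of the generic section over the nonvanishing locus of `s_m`. -/
theorem chart (m : Fin (n + 1)) (f : Fin (n + 1) → Γ(X, CohB1.genLocus N (s m)))
    (hf : ∀ j, sec (s j) (CohB1.genLocus N (s m)) = f j • sec (s m) (CohB1.genLocus N (s m))) :
    CohB1.genLocus _ (genSec k n s) ⊓ V k n s m = (XG k n X).basicOpen (eqn k n _ f) :=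
  genLocus_inf_eq (genSec k n s) ((isGen_sec_genLocus (s m)).pullSec (pr k n X))
    (sec_genSec_eq k n s _ _ f hf)

include hN in
theorem ideal_chart (m : Fin (n + 1)) (hV : IsAffineOpen (V k n s m))
    (f : Fin (n + 1) → Γ(X, CohB1.genLocus N (s m)))
    (hf : ∀ j, sec (s j) (CohB1.genLocus N (s m)) = f j • sec (s m) (CohB1.genLocus N (s m))) :
    (PicF2.zeroScheme _ (genSec k n s)).ideal ⟨V k n s m, hV⟩ = Ideal.span {eqn k n _ f} :=
  Pi1C.ZeroScheme.ideal_eq_span (genSec k n s) (isInvertible_pullback _ hN) ⟨V k n s m, hV⟩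
    ((isGen_sec_genLocus (s m)).pullSec (pr k n X)) (sec_genSec_eq k n s _ _ f hf)

section irr

variable [IsProper (X ↘ Spec (CommRingCat.of k))] [IsIntegral X]

/-- The zero locus of the generic section. -/
def zero : Set (XG k n X) := (CohB1.genLocus _ (genSec k n s) : Set (XG k n X))ᶜ

omit [IsProper (X ↘ Spec (CommRingCat.of k))] [IsIntegral X] in
theorem isClosed_zero : IsClosed (zero k n s) := (CohB1.genLocus _ (genSec k n s)).isOpen.isClosed_compl

include haff in
/-- Facts over the nonvanishing locus of `s_m`. -/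
theorem facts (m : Fin (n + 1)) :
    IsPreirreducible (zero k n s ∩ V k n s m) ∧
      (∀ j, (zero k n s ∩ V k n s m).Nonempty → (CohB1.genLocus N (s j) : Set X).Nonempty →
        (zero k n s ∩ V k n s m ∩ V k n s j).Nonempty) ∧
      ((CohB1.genLocus N (s m) : Set X).Nonempty → ∃ z : XG k n X, z ∉ zero k n s) := by
  by_cases hne : (CohB1.genLocus N (s m) : Set X).Nonempty
  swap
  · have hV : (V k n s m : Set (XG k n X)) = ∅ := by
      rw [Set.not_nonempty_iff_eq_empty] at hne
      ext z
      constructor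
      · intro hz
        have : pr k n X z ∈ (CohB1.genLocus N (s m) : Set X) := hz
        rw [hne] at this
        exact this.elim
      · intro h; exact h.elim
    have h0 : zero k n s ∩ V k n s m = ∅ := by rw [hV, Set.inter_empty]
    refine ⟨by rw [h0]; exact isPreirreducible_empty, fun j h => ?_, fun h => absurd h hne⟩
    rw [h0] at h
    exact absurd rfl h.ne_empty
  obtain ⟨f, hfm, hf, hfb⟩ := exists_ratio n s m
  have haff' := isAffineOpen_V k n s haff m
  have hne' : Nonempty (CohB1.genLocus N (s m)) := ⟨⟨_, hne.some_mem⟩⟩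
  have hdom : IsDomain Γ(X, CohB1.genLocus N (s m)) := inferInstance
  have hpush := isPushout_app k n X (haff m)
  have hP := push_top_or_prime hpush m f hfm
  have hP0 := push_ne_zero hpush m f hfm
  have hPn := fun h => push_not_mem hpush m f hfm h
  have hgl := chart k n s m f hf
  set a := eqn k n (CohB1.genLocus N (s m)) f with ha
  change Ideal.span {a} = ⊤ ∨ (Ideal.span {a}).IsPrime at hP
  change a ≠ 0 at hP0
  change Ideal.span {a} ≠ ⊤ → _ at hPn
  have hbo : ∀ (c : Γ(XG k n X, V k n s m)) (z : XG k n X) (hz : z ∈ V k n s m),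
      (z ∉ (XG k n X).basicOpen c ↔ c ∈ (haff'.primeIdealOf ⟨z, hz⟩).asIdeal) := by
    intro c z hz
    have h3 : z ∈ (XG k n X).basicOpen c ↔
        haff'.primeIdealOf ⟨z, hz⟩ ∈ haff'.fromSpec ⁻¹ᵁ (XG k n X).basicOpen c := by
      have h4 : haff'.fromSpec (haff'.primeIdealOf ⟨z, hz⟩) = z := haff'.fromSpec_primeIdealOf ⟨z, hz⟩
      conv_lhs => rw [← h4]
      rfl
    rw [h3, haff'.fromSpec_preimage_basicOpen c]
    exact not_not
  have hmem : ∀ z : XG k n X, ∀ hz : z ∈ V k n s m, (z ∈ zero k n s ↔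
      a ∈ (haff'.primeIdealOf ⟨z, hz⟩).asIdeal) := by
    intro z hz
    rw [← hbo, ← hgl]
    exact ⟨fun h h' => h h'.1, fun h h' => h ⟨h', hz⟩⟩
  have hprime : ∀ q : Spec Γ(XG k n X, V k n s m), ∀ hz : haff'.fromSpec q ∈ V k n s m,
      haff'.primeIdealOf ⟨haff'.fromSpec q, hz⟩ = q := by
    intro q hz
    apply haff'.fromSpec.isOpenEmbedding.injective
    exact haff'.fromSpec_primeIdealOf ⟨_, hz⟩
  have hrange : ∀ q : Spec Γ(XG k n X, V k n s m), haff'.fromSpec q ∈ V k n s m := by
    intro q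
    have : haff'.fromSpec q ∈ Set.range haff'.fromSpec := ⟨q, rfl⟩
    rwa [haff'.range_fromSpec] at this
  refine ⟨?_, ?_, ?_⟩
  · have himg : zero k n s ∩ V k n s m = haff'.fromSpec '' (PrimeSpectrum.zeroLocus {a}) := by
      ext z
      constructor
      · rintro ⟨hz', hz⟩
        exact ⟨haff'.primeIdealOf ⟨z, hz⟩, Set.singleton_subset_iff.mpr ((hmem z hz).mp hz'),
          haff'.fromSpec_primeIdealOf ⟨z, hz⟩⟩
      · rintro ⟨q, hq, rfl⟩
        refine ⟨?_, hrange q⟩
        rw [hmem _ (hrange q), hprime]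
        exact Set.singleton_subset_iff.mp hq
    rw [himg]
    refine IsPreirreducible.image ?_ _ haff'.fromSpec.continuous.continuousOn
    rw [← PrimeSpectrum.zeroLocus_span]
    rcases hP with h | h
    · rw [h]
      have : PrimeSpectrum.zeroLocus ((⊤ : Ideal Γ(XG k n X, V k n s m)) : Set Γ(XG k n X, V k n s m)) = ∅ := by
        rw [PrimeSpectrum.zeroLocus_empty_iff_eq_top]
      rw [this]
      exact isPreirreducible_empty
    · exact ((PrimeSpectrum.isIrreducible_zeroLocus_iff_of_radical _ h.isRadical).mpr h).isPreirreducible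
  · rintro j ⟨z, hz1, hz2⟩ ⟨w, hw⟩
    have hnt : Ideal.span {a} ≠ ⊤ := by
      intro h
      have h1 := (hmem z hz2).mp hz1
      have h2 : Ideal.span {a} ≤ (haff'.primeIdealOf ⟨z, hz2⟩).asIdeal :=
        (Ideal.span_singleton_le_iff_mem _).mpr h1
      rw [h] at h2
      exact (haff'.primeIdealOf ⟨z, hz2⟩).isPrime.ne_top (top_le_iff.mp h2)
    have hp : (Ideal.span {a}).IsPrime := hP.resolve_left hnt
    have hfj : f j ≠ 0 := by
      intro h0
      have h1 := hfb j
      rw [h0, Scheme.basicOpen_zero] at h1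
      have h2 : ((CohB1.genLocus N (s j) : Set X) ∩ (CohB1.genLocus N (s m) : Set X)).Nonempty :=
        nonempty_preirreducible_inter (CohB1.genLocus N (s j)).isOpen (CohB1.genLocus N (s m)).isOpen ⟨w, hw⟩ hne
      obtain ⟨v, hv1, hv2⟩ := h2
      have h3 : v ∈ CohB1.genLocus N (s j) ⊓ CohB1.genLocus N (s m) := ⟨hv1, hv2⟩
      rw [h1] at h3
      exact h3
    have hnm := hPn hnt (f j) hfj
    let q : Spec Γ(XG k n X, V k n s m) := ⟨Ideal.span {a}, hp⟩
    refine ⟨haff'.fromSpec q, ⟨?_, hrange q⟩, ?_⟩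
    · rw [hmem _ (hrange q), hprime]
      exact Ideal.mem_span_singleton_self a
    · have h5 : haff'.fromSpec q ∈ (XG k n X).basicOpen ((pr k n X).app _ (f j)) := by
        by_contra hc
        rw [hbo _ _ (hrange q), hprime] at hc
        exact hnm hc
      have h6 : (XG k n X).basicOpen ((pr k n X).app _ (f j)) = pr k n X ⁻¹ᵁ X.basicOpen (f j) :=
        (Scheme.preimage_basicOpen (pr k n X) (f j)).symm
      rw [h6, ← hfb j] at h5
      exact h5.1
  · intro _
    by_contra hcon
    push Not at hcon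
    apply hP0
    have hneW : Nonempty (V k n s m) := by
      obtain ⟨z, hz⟩ := (pr k n X).surjective hne.some
      exact ⟨⟨z, by change pr k n X z ∈ CohB1.genLocus N (s m); rw [hz]; exact hne.some_mem⟩⟩
    have h6 : (XG k n X).basicOpen a = ⊥ := by
      rw [← hgl, eq_bot_iff]
      intro z hz
      exact (hcon z hz.1).elim
    exact (basicOpen_eq_bot_iff a).mp h6

include haff hcov in
theorem isPreirreducible_zero : IsPreirreducible (zero k n s) := by
  refine isPreirreducible_of_cover (zero k n s) (fun m : Fin (n + 1) => (V k n s m : Set (XG k n X)))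
    (fun m => (V k n s m).isOpen) (fun z _ => hcov (pr k n X z)) (fun m => (facts k n s haff m).1) ?_
  rintro m j h1 ⟨w, -, hw⟩
  exact (facts k n s haff m).2.1 j h1 ⟨pr k n X w, hw⟩

include haff hcov in
theorem exists_not_mem_zero : ∃ z : XG k n X, z ∉ zero k n s := by
  obtain ⟨m, hm⟩ := hcov (genericPoint X)
  exact (facts k n s haff m).2.2 ⟨_, hm⟩

include haff hcov in
theorem genericPoint_mem : genericPoint (XG k n X) ∈ CohB1.genLocus _ (genSec k n s) := by
  obtain ⟨z, hz⟩ := exists_not_mem_zero k n s haff hcov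
  have h1 : z ∈ CohB1.genLocus _ (genSec k n s) := by
    by_contra h
    exact hz h
  exact ((genericPoint_spec (XG k n X)).mem_open_set_iff (CohB1.genLocus _ (genSec k n s)).isOpen).mpr
      ⟨z, trivial, h1⟩

include haff hcov in
theorem genSec_ne_zero : genSec k n s ≠ 0 := by
  intro h
  have h1 := genericPoint_mem k n s haff hcov
  rw [h, Dix.Cast2.genLocus_zero _ rfl] at h1
  exact h1

/-- The generic section `Y ⊂ X_K`. -/
noncomputable abbrev Y : Scheme.{u} := (PicF2.zeroScheme _ (genSec k n s)).subscheme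

/-- The inclusion. -/
noncomputable abbrev z : Y k n s ⟶ XG k n X := (PicF2.zeroScheme _ (genSec k n s)).subschemeι

omit [IsProper (X ↘ Spec (CommRingCat.of k))] [IsIntegral X] in
include hN in
theorem range_z : Set.range (z k n s) = zero k n s := by
  rw [Scheme.IdealSheafData.range_subschemeι]
  ext x
  exact Pi1C.ZeroScheme.mem_support_iff (genSec k n s) (isInvertible_pullback _ hN) x

omit [IsProper (X ↘ Spec (CommRingCat.of k))] in
include hN haff hcov in
theorem isNormal_Y (hX : Pi1.IsNormalScheme X) : Pi1.IsNormalScheme (Y k n s) := by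
  intro y
  obtain ⟨m, hm⟩ := hcov (pr k n X (z k n s y))
  obtain ⟨f, hfm, hf, hfb⟩ := exists_ratio n s m
  have haff' := isAffineOpen_V k n s haff m
  have hne' : Nonempty (CohB1.genLocus N (s m)) := ⟨⟨_, hm⟩⟩
  have hic : IsIntegrallyClosed Γ(X, CohB1.genLocus N (s m)) := S0288.isIntegrallyClosed_section hX (haff m)
  have h1 := push_isNormalRing (isPushout_app k n X (haff m)) m f hfm
  have h2 := ideal_chart k n hN s m haff' f hf
  refine An.H526.T3.stalk_of_isNormalRing (z k n s ⁻¹ᵁ V k n s m) (haff'.preimage (z k n s)) ?_ y hm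
  have e := ((PicF2.zeroScheme _ (genSec k n s)).subschemeObjIso ⟨V k n s m, haff'⟩).commRingCatIsoToRingEquiv
  refine S2070.isNormalRing_of_ringEquiv ((Ideal.quotEquivOfEq h2.symm).trans e.symm) h1

include hN haff hcov in
theorem isIntegral_Y (hX : Pi1.IsNormalScheme X) (hne : (zero k n s).Nonempty) : IsIntegral (Y k n s) := by
  have hn := isNormal_Y k n hN s haff hcov hX
  have hred : IsReduced (Y k n s) := by
    have : ∀ z : Y k n s, _root_.IsReduced ((Y k n s).presheaf.stalk z) := fun z => by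
      have := (hn z).1
      infer_instance
    exact isReduced_of_isReduced_stalk _
  have hirr : IsIrreducible (zero k n s) := ⟨hne, isPreirreducible_zero k n s haff hcov⟩
  rw [← range_z k n hN s] at hirr
  have hI : IrreducibleSpace (Y k n s) := by
    have h1 : IrreducibleSpace (Set.range (z k n s)) := Subtype.irreducibleSpace hirr
    let e := (z k n s).isClosedEmbedding.isEmbedding.toHomeomorph.symm
    have h2 := (IrreducibleSpace.isIrreducible_univ (Set.range (z k n s))).image e e.continuous.continuousOn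
    rw [Set.image_univ, e.surjective.range_eq] at h2
    rw [irreducibleSpace_def]
    exact h2
  exact isIntegral_of_irreducibleSpace_of_isReduced _

include hN haff hcov in
theorem dim_Y (hne : (zero k n s).Nonempty) (j : ℕ) (hd : topologicalKrullDim X = ((j + 1 : ℕ) : WithBot ℕ∞)) :
    topologicalKrullDim (Y k n s) = j := by
  obtain ⟨z₀, hz₀⟩ := hne
  have h1 := Groth.Agent.Pic13.H956.GenMem.dim_zero (Gen k n) (XG k n X) (isInvertible_pullback _ hN) (genSec k n s)
    (genericPoint_mem k n s haff hcov) (z₀ := z₀) hz₀ j ((dim_XG k n X).trans hd)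
  have h2 : topologicalKrullDim (zero k n s) = j := h1
  rw [← h2, ← range_z k n hN s]
  exact IsHomeomorph.topologicalKrullDim_eq _
    (z k n s).isClosedEmbedding.isEmbedding.toHomeomorph.isHomeomorph

include hN haff hcov in
/-- The ideal of the generic section is the inverse of `pr^* N`. -/
theorem isInverseOf_ideal : BlowUp.IsEffCartierIdeal (PicF2.zeroScheme _ (genSec k n s)) ∧
    ClSub.IsInverseOf ((Scheme.Modules.pullback (pr k n X)).obj N)
      (ClSub.idealMod (PicF2.zeroScheme _ (genSec k n s))) :=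
  K480.GGCurve.isInverseOf_zeroScheme (isInvertible_pullback _ hN) (genSec k n s) (genSec_ne_zero k n s haff hcov)

end irr

end K987.GenSch
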