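import Groth.Agent.Pic13.K987.GenTop
import Groth.Agent.Pic13.K244.RegSeq
import Groth.Agent.HypSq.K980.PicNum
import Groth.Agent.Sga67.HomInvB

/-!
# The exact sequence of the generic hyperplane section, on `P^n_K`

`0 → A → B → C → 0` with `A ≅ B(-1)`, `B ≅ (X_K ⊂ P^n_K)_* L_K`, `C ≅ (Y ⊂ P^n_K)_* L_Y`.
-/

set_option autoImplicit false
universe u
open CategoryTheory CategoryTheory.Limits AlgebraicGeometry Opposite TopologicalSpace

namespace K987.GenSeq

open Groth.Agent Groth.Agent.Fdesc.LocGen K987.GenAlg K987.GenX K987.GenSch K987.GenImm K987.GenTop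
open Groth.Agent.Fga.PicMon

variable (k : Type u) [Field k] (n : ℕ) {X : Scheme.{u}} (i : X ⟶ CohB1.ProjSpace n k)
  [X.Over (Spec (CommRingCat.of k))] [IsClosedImmersion i]
  (hi : i ≫ CohB1.ProjSpace.toSpec n k = X ↘ Spec (CommRingCat.of k))

/-- `L_K`. -/
noncomputable abbrev LK (L : X.Modules) : (XG k n X).Modules := (Scheme.Modules.pullback (pr k n X)).obj L

/-- The generic hyperplane section. -/
noncomputable abbrev YY : Scheme.{u} := Y k n (cs k n i)

/-- The inclusion in `X_K`. -/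
noncomputable abbrev zz : YY k n i ⟶ XG k n X := z k n (cs k n i)

/-- The inclusion in `P^n_K`. -/
noncomputable abbrev jj : YY k n i ⟶ CohB1.ProjSpace n (Gen k n) := zz k n i ≫ iG k n i hi

/-- `L_Y`. -/
noncomputable abbrev LY (L : X.Modules) : (YY k n i).Modules :=
  (Scheme.Modules.pullback (zz k n i)).obj (LK k n L)

noncomputable instance : (YY k n i).Over (Spec (CommRingCat.of (Gen k n))) :=
  ⟨zz k n i ≫ XG k n X ↘ Spec (CommRingCat.of (Gen k n))⟩

omit [IsClosedImmersion i] in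
theorem jj_toSpec : jj k n i hi ≫ CohB1.ProjSpace.toSpec n (Gen k n) =
    YY k n i ↘ Spec (CommRingCat.of (Gen k n)) := by
  rw [Category.assoc, iG_toSpec]
  rfl

instance : IsClosedImmersion (jj k n i hi) := inferInstance

variable [IsIntegral X]

include hi in
theorem mc_ideal : mc (ClSub.idealMod (zz k n i).ker) = K243.Base.o (iG k n i hi) (-1) := by
  have hp : IsProper (X ↘ Spec (CommRingCat.of k)) := K243.Base.isProper_of i hi
  obtain ⟨-, e⟩ := isInverseOf_ideal k n (K243.Base.isInvertible_O i 1) (cs k n i) (isAffineOpen_cs k n i)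
    (exists_mem_cs k n i)
  have hk : (zz k n i).ker = PicF2.zeroScheme _ (genSec k n (cs k n i)) := Scheme.IdealSheafData.ker_subschemeι _
  rw [hk]
  have h1 : mc ((Scheme.Modules.pullback (pr k n X)).obj (K243.Base.O i 1)) *
      mc (ClSub.idealMod (PicF2.zeroScheme _ (genSec k n (cs k n i)))) = 1 := by
    rw [← mc_tensor, ← mc_one]
    exact mc_eq e.some
  have h2 : mc ((Scheme.Modules.pullback (pr k n X)).obj (K243.Base.O i 1)) = K243.Base.o (iG k n i hi) 1 :=
    mc_eq (pullO k n i hi 1)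
  rw [h2] at h1
  calc mc (ClSub.idealMod (PicF2.zeroScheme _ (genSec k n (cs k n i))))
      = (K243.Base.o (iG k n i hi) (-1) * K243.Base.o (iG k n i hi) 1) *
        mc (ClSub.idealMod (PicF2.zeroScheme _ (genSec k n (cs k n i)))) := by
          rw [K243.Base.o_neg_mul, one_mul]
    _ = K243.Base.o (iG k n i hi) (-1) := by rw [mul_assoc, h1, mul_one]

theorem exists_seq {L : X.Modules} (hL : PicF.IsInvertible L) :
    ∃ S : ShortComplex (CohB1.ProjSpace n (Gen k n)).Modules, S.ShortExact ∧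
      Nonempty (S.X₁ ≅ CohB1.tensorMod S.X₂ (Twist.twistProjSpace n (Gen k n) (-1))) ∧
      Nonempty (S.X₂ ≅ (Scheme.Modules.pushforward (iG k n i hi)).obj (LK k n L)) ∧
      Nonempty (S.X₃ ≅ (Scheme.Modules.pushforward (jj k n i hi)).obj (LY k n i L)) := by
  have hE : PicF.IsInvertible (LK k n L) := isInvertible_pullback _ hL
  obtain ⟨M, f, g, w, hS, ⟨e⟩⟩ := K980.PicNum.exists_shortExact (zz k n i) hE
  have hcE : Coh.IsQCoh (LK k n L) := Ega2.QCohLocal.isQCoh_of_isInvertible hE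
  have hcY : Coh.IsQCoh (LY k n i L) := Ega2.QCohLocal.isQCoh_of_isInvertible (isInvertible_pullback _ hE)
  have hcM : Coh.IsQCoh M := CohqB.LocalQC.isQCoh_of_iso e.symm (CohqA.AffPush.isQCoh_push (zz k n i) _ hcY)
  have hS' := Sga67.HomInvB.shortExact_push (iG k n i hi) hS hcE hcM
  refine ⟨_, hS', ?_, ⟨Iso.refl _⟩, ?_⟩
  · obtain ⟨e1⟩ := (mc_eq_iff (CohB1.tensorMod (LK k n L) (ClSub.idealMod (zz k n i).ker))
      (Pic13.twistOn (Gen k n) (iG k n i hi) (LK k n L) (-1))).mp (by
        rw [mc_tensor, K243.Base.mc_twistOn, mc_ideal k n i hi])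
    exact ⟨(Scheme.Modules.pushforward (iG k n i hi)).mapIso e1 ≪≫
      Pic13.H951.PresentX.pushTwist (Gen k n) (iG k n i hi) (LK k n L) (-1)⟩
  · exact ⟨(Scheme.Modules.pushforward (iG k n i hi)).mapIso e ≪≫
      (Scheme.Modules.pushforwardComp (zz k n i) (iG k n i hi)).app _⟩

end K987.GenSeq
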