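import Groth.Agent.Pic13.K243.Diff
import Mathlib.Algebra.MvPolynomial.CommRing
import Mathlib.Algebra.MvPolynomial.Eval

/-!
# Numerical towers: universal bounds for cohomology of negative sheaves on normal schemes

`Tow r H c`: numerical facts about `H j q t = h^q(X_j, L_j(t))` for a tower of successive generic hyperplane
sections `X_r, …, X_1, X_0` (`dim X_j = j`), `c j = a_(r-j)` the Hilbert coefficients.
* `exists_bounds`: universal polynomials in `(c 2, c 1, c 0)` bounding `h^1`, `c j` and the regularity.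
-/

set_option autoImplicit false

namespace K987.NumTow

open K243.Diff Finset

/-- Numerical tower. -/
structure Tow (r : ℕ) (H : ℕ → ℕ → ℤ → ℕ) (c : ℕ → ℤ) : Prop where
  e1 : ∀ j < r, ∀ (q : ℕ) (t : ℤ), H (j + 1) q t ≤ H (j + 1) q (t - 1) + H j q t
  e2 : ∀ j < r, ∀ (q : ℕ) (t : ℤ), H (j + 1) (q + 1) (t - 1) ≤ H j q t + H (j + 1) (q + 1) t
  chi : ∀ j ≤ r, ∀ t : ℤ, ∑ q ∈ range (j + 1), (-1 : ℤ) ^ q * (H j q t : ℤ) = ∑ i ∈ range (j + 1), c (j - i) * cc i t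
  dim : ∀ j ≤ r, ∀ q : ℕ, j < q → ∀ t : ℤ, H j q t = 0
  serre : ∀ j ≤ r, ∃ t₀ : ℤ, ∀ t : ℤ, t₀ ≤ t → ∀ q : ℕ, 1 ≤ q → H j q t = 0
  neg : ∀ j, 1 ≤ j → j ≤ r → ∀ t : ℤ, t < 0 → H j 0 t = 0
  esz : ∀ j, 2 ≤ j → j ≤ r → ∃ t₀ : ℤ, ∀ t : ℤ, t ≤ t₀ → H j 1 t = 0
  up : ∀ j < r, ∀ m : ℤ, (∀ q : ℕ, 1 ≤ q → ∀ t : ℤ, m - q ≤ t → H j q t = 0) →
    ∀ t : ℤ, m - 1 + (H (j + 1) 1 (m - 1) : ℤ) ≤ t → H (j + 1) 1 t = 0
  down : 2 ≤ r → ∀ t : ℤ, t ≤ -2 - (H 2 1 (-2) : ℤ) → H 2 1 t = 0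

theorem cc_neg_one (i : ℕ) : cc (i + 1) (-1) = 0 := by
  have h1 : (-1 : ℤ) + ((i + 1 : ℕ) : ℤ) = (i : ℤ) := by push_cast; ring
  rw [cc, h1, Ring.choose_natCast]
  simp

theorem cc_nonneg (i : ℕ) (t : ℤ) (ht : -1 ≤ t) : 0 ≤ cc i t := by
  rcases eq_or_lt_of_le ht with h | h
  · rw [← h]
    cases i with
    | zero => rw [cc_zero]; exact zero_le_one
    | succ i => rw [cc_neg_one]
  · obtain ⟨l, rfl⟩ := Int.eq_ofNat_of_zero_le (by omega : 0 ≤ t)
    rw [cc_natCast]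
    positivity

theorem cc_le_pow (i : ℕ) (M : ℤ) (hM : 0 ≤ M) : cc i (M - 1) ≤ (M + i) ^ i := by
  rcases eq_or_lt_of_le hM with h | h
  · rw [← h]
    cases i with
    | zero => rw [cc_zero]; simp
    | succ i =>
      rw [zero_sub, cc_neg_one]
      positivity
  · obtain ⟨l, hl⟩ := Int.eq_ofNat_of_zero_le (by omega : 0 ≤ M - 1)
    have hM' : M = (l : ℤ) + 1 := by rw [← sub_eq_iff_eq_add]; exact hl
    have e1 : M - 1 = (l : ℤ) := hl
    rw [e1, cc_natCast, hM']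
    have h1 : (l + i).choose i ≤ (l + i) ^ i := Nat.choose_le_pow _ _
    have h2 : (l + i) ^ i ≤ (l + 1 + i) ^ i := Nat.pow_le_pow_left (by omega) _
    exact_mod_cast h1.trans h2

section

variable {r : ℕ} {H : ℕ → ℕ → ℤ → ℕ} {c : ℕ → ℤ} (T : Tow r H c)

include T

theorem h0_zero (t : ℤ) : (H 0 0 t : ℤ) = c 0 := by
  have := T.chi 0 (Nat.zero_le _) t
  simpa [cc_zero] using this

theorem c0_nonneg : 0 ≤ c 0 := by rw [← h0_zero T 0]; positivity

/-- `h^0(L_j(t)) ≤ c_0 binom(t+j, j)`. -/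
theorem h0_le (j : ℕ) (hj : j ≤ r) (t : ℤ) (ht : -1 ≤ t) : (H j 0 t : ℤ) ≤ c 0 * cc j t := by
  induction j generalizing t with
  | zero => rw [h0_zero T, cc_zero, mul_one]
  | succ j ih =>
    induction t, ht using Int.leInduction with
    | base =>
      rw [T.neg (j + 1) (by omega) hj (-1) (by norm_num), cc_neg_one]
      simp
    | succ a ha iha =>
      have h1 := T.e1 j (by omega) 0 (a + 1)
      rw [add_sub_cancel_right] at h1
      have h2 := ih (by omega) (a + 1) (by omega)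
      have h3 := nab_cc_succ j (a + 1)
      rw [nab_apply, add_sub_cancel_right] at h3
      have h4 : (H (j + 1) 0 (a + 1) : ℤ) ≤ H (j + 1) 0 a + H j 0 (a + 1) := by exact_mod_cast h1
      have h5 : c 0 * cc (j + 1) (a + 1) = c 0 * cc (j + 1) a + c 0 * cc j (a + 1) := by
        rw [← h3]; ring
      linarith

/-- `H^q(L_(j+1)(t)) = 0`, `q ≥ 2`, `t ≥ m - q`. -/
theorem van_two (j : ℕ) (hj : j < r) (m : ℤ) (hm : ∀ q : ℕ, 1 ≤ q → ∀ t : ℤ, m - q ≤ t → H j q t = 0) (q : ℕ)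
    (hq : 2 ≤ q) (t : ℤ) (ht : m - q ≤ t) : H (j + 1) q t = 0 := by
  obtain ⟨p, rfl⟩ : ∃ p, q = p + 1 := ⟨q - 1, by omega⟩
  obtain ⟨t₀, h₀⟩ := T.serre (j + 1) hj
  have key : ∀ (l : ℕ) (t : ℤ), m - ((p + 1 : ℕ) : ℤ) ≤ t → t₀ ≤ t + l → H (j + 1) (p + 1) t = 0 := by
    intro l
    induction l with
    | zero => intro t _ h; exact h₀ t (by simpa using h) _ (by omega)
    | succ l ih =>
      intro t h1 h2
      have h3 := ih (t + 1) (by omega) (by push_cast at h2 ⊢; omega)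
      have h4 := T.e2 j hj p (t + 1)
      rw [add_sub_cancel_right, h3, hm p (by omega) (t + 1) (by push_cast at h1 ⊢; omega)] at h4
      omega
  exact key (t₀ - t).toNat t ht (by have := Int.self_le_toNat (t₀ - t); omega)

/-- `H^1(L_(j+1)(t)) ≤ H^1(L_(j+1)(m - 1))` for `t ≥ m - 1`. -/
theorem h1_le_right (j : ℕ) (hj : j < r) (m : ℤ) (hm : ∀ t : ℤ, m ≤ t → H j 1 t = 0) (t : ℤ) (ht : m - 1 ≤ t) :
    H (j + 1) 1 t ≤ H (j + 1) 1 (m - 1) := by
  induction t, ht using Int.leInduction with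
  | base => exact le_rfl
  | succ a ha ih =>
    have h1 := T.e1 j hj 1 (a + 1)
    rw [add_sub_cancel_right, hm (a + 1) (by omega), add_zero] at h1
    exact h1.trans ih

/-! ### Level one -/

theorem level_one (hr : 1 ≤ r) : (H 1 1 (-1) : ℤ) = - c 1 ∧ ∀ q : ℕ, 1 ≤ q → ∀ t : ℤ, - c 1 - q ≤ t → H 1 q t = 0 := by
  have h1 : (H 1 1 (-1) : ℤ) = - c 1 := by
    have h2 := T.chi 1 hr (-1)
    rw [sum_range_succ, sum_range_succ, sum_range_zero, sum_range_succ, sum_range_succ, sum_range_zero, cc_zero,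
      cc_neg_one, T.neg 1 le_rfl hr (-1) (by norm_num)] at h2
    simp at h2
    linarith
  refine ⟨h1, fun q hq t ht => ?_⟩
  rcases Nat.lt_or_ge 1 q with h | h
  · exact T.dim 1 hr q h t
  · obtain rfl : q = 1 := le_antisymm h hq
    refine T.up 0 hr 0 (fun q hq t _ => T.dim 0 (Nat.zero_le _) q hq t) t ?_
    simp only [zero_sub, zero_add]
    rw [h1]
    push_cast at ht
    linarith

/-! ### Level two -/

theorem level_two (hr : 2 ≤ r) :
    0 ≤ c 1 ^ 2 - c 1 - c 2 ∧ (∀ q : ℕ, 1 ≤ q → ∀ t : ℤ, (c 1 ^ 2 - c 1 - c 2) - q ≤ t → H 2 q t = 0) ∧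
      (∀ t : ℤ, (H 2 1 t : ℤ) ≤ c 1 ^ 2 - c 2 + c 0 * (c 1 ^ 2 - c 1)) := by
  obtain ⟨h11, hreg⟩ := level_one T (by omega)
  have hc1 : c 1 ≤ 0 := by
    have : (0 : ℤ) ≤ H 1 1 (-1) := by positivity
    linarith
  have hc0 := c0_nonneg T
  set m : ℤ := - c 1 with hm
  have hm0 : 0 ≤ m := by linarith
  have hv2 : ∀ q : ℕ, 2 ≤ q → ∀ t : ℤ, m - q ≤ t → H 2 q t = 0 := fun q hq t ht =>
    van_two T 1 (by omega) m hreg q hq t ht
  have h0m := h0_le T 2 hr (m - 1) (by omega)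
  -- `h^1(m - 1)`
  have key : (H 2 1 (m - 1) : ℤ) ≤ c 1 ^ 2 - c 2 := by
    have h2 := T.chi 2 hr (m - 1)
    rw [sum_range_succ, sum_range_succ, sum_range_succ, sum_range_zero, sum_range_succ, sum_range_succ,
      sum_range_succ, sum_range_zero, hv2 2 le_rfl (m - 1) (by push_cast; omega), cc_zero, cc_one] at h2
    simp only [pow_zero, one_mul, pow_one, zero_add, Nat.cast_zero, mul_zero, add_zero, neg_mul, Nat.sub_zero,
      mul_one, Nat.reduceSub, Nat.sub_self, sub_add_cancel] at h2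
    have h3 : c 1 * m = - c 1 ^ 2 := by rw [hm]; ring
    linarith
  have hup : ∀ t : ℤ, m - 1 + (c 1 ^ 2 - c 2) ≤ t → H 2 1 t = 0 := fun t ht =>
    T.up 1 (by omega) m hreg t (by linarith)
  have hnn : 0 ≤ c 1 ^ 2 - c 2 := le_trans (by positivity) key
  refine ⟨by linarith, fun q hq t ht => ?_, ?_⟩
  · rcases Nat.lt_or_ge 1 q with h | h
    · exact hv2 q h t (by linarith)
    · obtain rfl : q = 1 := le_antisymm h hq
      exact hup t (by push_cast at ht; linarith)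
  · -- the bound
    have hb1 : ∀ t : ℤ, m - 1 ≤ t → (H 2 1 t : ℤ) ≤ c 1 ^ 2 - c 2 := by
      intro t ht
      have := h1_le_right T 1 (by omega) m (fun t ht => hreg 1 le_rfl t (by push_cast; linarith)) t ht
      exact le_trans (by exact_mod_cast this) key
    have hb2 : ∀ l : ℕ, ∀ t : ℤ, -1 ≤ t → t + l = m - 1 →
        (H 2 1 t : ℤ) ≤ c 1 ^ 2 - c 2 + c 0 * (cc 2 (m - 1) - cc 2 t) := by
      intro l
      induction l with
      | zero =>
        intro t _ ht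
        have h3 : t = m - 1 := by simpa using ht
        rw [h3, sub_self, mul_zero, add_zero]
        exact key
      | succ l ih =>
        intro t ht1 ht2
        have h3 := ih (t + 1) (by omega) (by push_cast at ht2; omega)
        have h4 := T.e2 1 (by omega) 0 (t + 1)
        rw [add_sub_cancel_right] at h4
        have h5 := h0_le T 1 (by omega) (t + 1) (by omega)
        have h6 := nab_cc_succ 1 (t + 1)
        rw [nab_apply, add_sub_cancel_right] at h6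
        have h7 : (H 2 1 t : ℤ) ≤ H 1 0 (t + 1) + H 2 1 (t + 1) := by exact_mod_cast h4
        have h8 : c 0 * cc 1 (t + 1) = c 0 * (cc 2 (m - 1) - cc 2 t) - c 0 * (cc 2 (m - 1) - cc 2 (t + 1)) := by
          rw [← h6]; ring
        linarith
    have hcc : cc 2 (m - 1) ≤ c 1 ^ 2 - c 1 := by
      have h3 : c 1 ^ 2 - c 1 = m * (m + 1) := by rw [hm]; ring
      rw [h3]
      rcases eq_or_lt_of_le hm0 with h | h
      · rw [← h, zero_sub, cc_neg_one]; simp
      · obtain ⟨l, hl⟩ := Int.eq_ofNat_of_zero_le (by omega : 0 ≤ m - 1)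
        have e1 : m - 1 = (l : ℤ) := hl
        have e2 : m = (l : ℤ) + 1 := by linarith
        rw [e1, cc_natCast, e2]
        have h4 : (l + 2).choose 2 ≤ (l + 1) * (l + 2) := by
          rw [Nat.choose_two_right]
          calc (l + 2) * (l + 2 - 1) / 2 ≤ (l + 2) * (l + 2 - 1) := Nat.div_le_self _ _
            _ = (l + 1) * (l + 2) := by rw [show l + 2 - 1 = l + 1 from rfl]; ring
        have h5 : (((l + 2).choose 2 : ℕ) : ℤ) ≤ ((l : ℤ) + 1) * ((l : ℤ) + 1 + 1) := by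
          calc (((l + 2).choose 2 : ℕ) : ℤ) ≤ (((l + 1) * (l + 2) : ℕ) : ℤ) := by exact_mod_cast h4
            _ = ((l : ℤ) + 1) * ((l : ℤ) + 1 + 1) := by push_cast; ring
        exact h5
    have hB : c 1 ^ 2 - c 2 + c 0 * cc 2 (m - 1) ≤ c 1 ^ 2 - c 2 + c 0 * (c 1 ^ 2 - c 1) := by
      have := mul_le_mul_of_nonneg_left hcc hc0
      linarith
    have hneg : ∀ l : ℕ, (H 2 1 (-1 - (l : ℤ)) : ℤ) ≤ c 1 ^ 2 - c 2 + c 0 * cc 2 (m - 1) := by
      intro l
      induction l with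
      | zero =>
        have h3 := hb2 m.toNat (-1) le_rfl (by rw [Int.toNat_of_nonneg hm0]; ring)
        rw [cc_neg_one, sub_zero] at h3
        simpa using h3
      | succ l ih =>
        have h4 : H 2 1 (-1 - (l : ℤ) - 1) ≤ H 1 0 (-1 - (l : ℤ)) + H 2 1 (-1 - (l : ℤ)) :=
          T.e2 1 (by omega) 0 (-1 - (l : ℤ))
        have h4' := T.neg 1 le_rfl (by omega) (-1 - (l : ℤ)) (by omega)
        have e1 : (-1 : ℤ) - ((l + 1 : ℕ) : ℤ) = -1 - (l : ℤ) - 1 := by push_cast; ring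
        rw [e1]
        refine le_trans ?_ ih
        exact_mod_cast (by omega : H 2 1 (-1 - (l : ℤ) - 1) ≤ H 2 1 (-1 - (l : ℤ)))
    intro t
    refine le_trans ?_ hB
    rcases le_total (m - 1) t with h | h
    · have := mul_nonneg hc0 (cc_nonneg 2 (m - 1) (by omega))
      linarith [hb1 t h]
    · rcases le_total (-1) t with h' | h'
      · have h3 := hb2 (m - 1 - t).toNat t h' (by rw [Int.toNat_of_nonneg (by omega)]; ring)
        have h4 := mul_nonneg hc0 (cc_nonneg 2 t h')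
        have h5 : c 0 * (cc 2 (m - 1) - cc 2 t) = c 0 * cc 2 (m - 1) - c 0 * cc 2 t := by ring
        linarith
      · have h3 := hneg (-1 - t).toNat
        rwa [Int.toNat_of_nonneg (by omega), sub_sub_cancel] at h3

/-! ### The induction step -/

theorem step_neg (j : ℕ) (hj2 : 2 ≤ j) (hj : j < r) (b : ℤ) (h : ∀ t : ℤ, t ≤ b → H j 1 t = 0) (t : ℤ) (ht : t ≤ b) :
    H (j + 1) 1 t = 0 := by
  obtain ⟨t₀, h₀⟩ := T.esz (j + 1) (by omega) (by omega)
  have key : ∀ (l : ℕ) (t : ℤ), t ≤ b → t - l ≤ t₀ → H (j + 1) 1 t = 0 := by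
    intro l
    induction l with
    | zero => intro t _ h; exact h₀ t (by simpa using h)
    | succ l ih =>
      intro t h1 h2
      have h3 := ih (t - 1) (by omega) (by push_cast at h2; omega)
      have h4 := T.e1 j hj 1 t
      rw [h3, h t h1] at h4
      omega
  exact key (t - t₀).toNat t ht (by have := Int.self_le_toNat (t - t₀); omega)

theorem step_bound (j : ℕ) (hj2 : 2 ≤ j) (hj : j < r) (M h2 hh : ℤ) (hM : 0 ≤ M) (h20 : 0 ≤ h2)
    (hreg : ∀ t : ℤ, M - 1 ≤ t → H j 1 t = 0) (hb : ∀ t : ℤ, (H j 1 t : ℤ) ≤ hh)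
    (hn : ∀ t : ℤ, t ≤ -2 - h2 → H j 1 t = 0) (t : ℤ) : (H (j + 1) 1 t : ℤ) ≤ (M + h2) * hh := by
  have hh0 : 0 ≤ hh := le_trans (by positivity) (hb 0)
  have hn' := step_neg T j hj2 hj _ hn
  have key : ∀ l : ℕ, (H (j + 1) 1 (-2 - h2 + l) : ℤ) ≤ l * hh := by
    intro l
    induction l with
    | zero => rw [hn' _ (by simp)]; simp
    | succ l ih =>
      have h4 := T.e1 j hj 1 (-2 - h2 + ((l + 1 : ℕ) : ℤ))
      have e1 : -2 - h2 + ((l + 1 : ℕ) : ℤ) - 1 = -2 - h2 + (l : ℤ) := by push_cast; ring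
      rw [e1] at h4
      have h5 := hb (-2 - h2 + ((l + 1 : ℕ) : ℤ))
      have h6 : (H (j + 1) 1 (-2 - h2 + ((l + 1 : ℕ) : ℤ)) : ℤ) ≤
          H (j + 1) 1 (-2 - h2 + (l : ℤ)) + H j 1 (-2 - h2 + ((l + 1 : ℕ) : ℤ)) := by exact_mod_cast h4
      have h7 : (((l + 1 : ℕ) : ℤ)) * hh = l * hh + hh := by push_cast; ring
      linarith
  have hmul : 0 ≤ (M + h2) * hh := mul_nonneg (by linarith) hh0
  rcases le_total t (-2 - h2) with h | h
  · rw [hn' t h]; simpa using hmul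
  rcases le_total t (M - 2) with h' | h'
  · have h3 := key (t + 2 + h2).toNat
    rw [Int.toNat_of_nonneg (by omega)] at h3
    have e1 : -2 - h2 + (t + 2 + h2) = t := by ring
    rw [e1] at h3
    refine h3.trans (mul_le_mul_of_nonneg_right (by linarith) hh0)
  · have h3 := key (M + h2).toNat
    rw [Int.toNat_of_nonneg (by omega)] at h3
    have e1 : -2 - h2 + (M + h2) = M - 2 := by ring
    rw [e1] at h3
    have h4 := h1_le_right T j hj (M - 1) hreg t (by linarith)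
    have e2 : M - 1 - 1 = M - 2 := by ring
    rw [e2] at h4
    exact le_trans (by exact_mod_cast h4) h3

theorem step_coeff (j : ℕ) (hj : j < r) (M B : ℤ) (hM : 0 ≤ M) (G : ℕ → ℤ)
    (hreg : ∀ q : ℕ, 1 ≤ q → ∀ t : ℤ, M - q ≤ t → H j q t = 0)
    (hB : (H (j + 1) 1 (M - 1) : ℤ) ≤ B) (hG : ∀ i ≤ j, |c i| ≤ G i) :
    |c (j + 1)| ≤ G 0 * (M + (j + 1 : ℕ)) ^ (j + 1) + B +
      ∑ i ∈ range (j + 1), G (j - i) * (M + (i + 1 : ℕ)) ^ (i + 1) := by
  have hc0 := c0_nonneg T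
  have h1 := T.chi (j + 1) (by omega) (M - 1)
  have h2 : ∑ q ∈ range (j + 1 + 1), (-1 : ℤ) ^ q * (H (j + 1) q (M - 1) : ℤ) =
      (H (j + 1) 0 (M - 1) : ℤ) - H (j + 1) 1 (M - 1) := by
    rw [sum_range_succ', sum_range_succ']
    have h3 : ∑ q ∈ range j, (-1 : ℤ) ^ (q + 1 + 1) * (H (j + 1) (q + 1 + 1) (M - 1) : ℤ) = 0 := by
      refine sum_eq_zero fun q _ => ?_
      rw [van_two T j hj M hreg (q + 1 + 1) (by omega) (M - 1) (by push_cast; omega)]
      simp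
    rw [h3]
    simp
    ring
  rw [h2, sum_range_succ'] at h1
  simp only [Nat.sub_zero, cc_zero, mul_one] at h1
  have h4 : c (j + 1) = (H (j + 1) 0 (M - 1) : ℤ) - H (j + 1) 1 (M - 1) -
      ∑ i ∈ range (j + 1), c (j + 1 - (i + 1)) * cc (i + 1) (M - 1) := by linarith
  have h5 : |∑ i ∈ range (j + 1), c (j + 1 - (i + 1)) * cc (i + 1) (M - 1)| ≤
      ∑ i ∈ range (j + 1), G (j - i) * (M + (i + 1 : ℕ)) ^ (i + 1) := by
    refine (abs_sum_le_sum_abs _ _).trans (sum_le_sum fun i hi => ?_)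
    rw [abs_mul, abs_of_nonneg (cc_nonneg (i + 1) (M - 1) (by omega)), Nat.add_sub_add_right]
    refine mul_le_mul (hG (j - i) (by omega)) (cc_le_pow (i + 1) M hM) (cc_nonneg _ _ (by omega)) ?_
    exact le_trans (abs_nonneg _) (hG (j - i) (by omega))
  have h6 : (H (j + 1) 0 (M - 1) : ℤ) ≤ G 0 * (M + (j + 1 : ℕ)) ^ (j + 1) := by
    refine (h0_le T (j + 1) (by omega) (M - 1) (by omega)).trans ?_
    refine mul_le_mul ?_ (cc_le_pow (j + 1) M hM) (cc_nonneg _ _ (by omega)) ?_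
    · exact (le_abs_self _).trans (hG 0 (Nat.zero_le _))
    · exact le_trans (abs_nonneg _) (hG 0 (Nat.zero_le _))
  rw [h4]
  have h7 : (0 : ℤ) ≤ H (j + 1) 0 (M - 1) := by positivity
  have h8 : (0 : ℤ) ≤ H (j + 1) 1 (M - 1) := by positivity
  rw [abs_le] at h5 ⊢
  constructor <;> linarith [h5.1, h5.2]

end

/-! ### Universal polynomials -/

open MvPolynomial

/-- The evaluation point. -/
def pt (c : ℕ → ℤ) : Fin 3 → ℤ := ![c 2, c 1, c 0]

/-- `h_2`. -/
noncomputable def h2 : MvPolynomial (Fin 3) ℤ := X 1 ^ 2 - X 0 + X 2 * (X 1 ^ 2 - X 1)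

theorem eval_h2 (c : ℕ → ℤ) : eval (pt c) h2 = c 1 ^ 2 - c 2 + c 0 * (c 1 ^ 2 - c 1) := by
  simp [h2, pt]

theorem exists_bounds (j : ℕ) (hj : 2 ≤ j) :
    ∃ (h M : MvPolynomial (Fin 3) ℤ) (G : ℕ → MvPolynomial (Fin 3) ℤ), (j = 2 → h = h2) ∧
      ∀ (r : ℕ) (H : ℕ → ℕ → ℤ → ℕ) (c : ℕ → ℤ), Tow r H c → j ≤ r →
        0 ≤ eval (pt c) M ∧ (∀ q : ℕ, 1 ≤ q → ∀ t : ℤ, eval (pt c) M - q ≤ t → H j q t = 0) ∧
        (∀ t : ℤ, (H j 1 t : ℤ) ≤ eval (pt c) h) ∧ (∀ t : ℤ, t ≤ -2 - eval (pt c) h2 → H j 1 t = 0) ∧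
        (∀ i ≤ j, |c i| ≤ eval (pt c) (G i)) := by
  induction j, hj using Nat.le_induction with
  | base =>
    refine ⟨h2, X 1 ^ 2 - X 1 - X 0, fun i => if i = 0 then X 2 ^ 2 else if i = 1 then X 1 ^ 2 else X 0 ^ 2,
      fun _ => rfl, fun r H c T hr => ?_⟩
    obtain ⟨k1, k2, k3⟩ := level_two T hr
    have eM : eval (pt c) (X 1 ^ 2 - X 1 - X 0) = c 1 ^ 2 - c 1 - c 2 := by simp [pt]
    rw [eM, eval_h2]
    refine ⟨k1, k2, k3, fun t ht => ?_, fun i hi => ?_⟩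
    · exact T.down hr t (by linarith [k3 (-2)])
    · have habs : ∀ x : ℤ, |x| ≤ x ^ 2 := by
        intro x
        rw [← sq_abs]
        rcases eq_or_ne x 0 with h | h
        · simp [h]
        · have h1 := Int.one_le_abs h
          nlinarith [abs_nonneg x]
      interval_cases i
      · simpa [pt] using habs (c 0)
      · simpa [pt] using habs (c 1)
      · simpa [pt] using habs (c 2)
  | succ j hj ih =>
    obtain ⟨h, M, G, -, ih⟩ := ih
    refine ⟨(M + h2) * h, M + (M + h2) * h, Function.update G (j + 1)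
      (G 0 * (M + C ((j + 1 : ℕ) : ℤ)) ^ (j + 1) + (M + h2) * h +
        ∑ i ∈ range (j + 1), G (j - i) * (M + C ((i + 1 : ℕ) : ℤ)) ^ (i + 1)), fun h => by omega,
      fun r H c T hr => ?_⟩
    obtain ⟨k1, k2, k3, k4, k5⟩ := ih r H c T (by omega)
    have hh2 : 0 ≤ eval (pt c) h2 := by
      rw [eval_h2]
      exact le_trans (by positivity) ((level_two T (by omega)).2.2 0)
    have hb := step_bound T j hj (by omega) (eval (pt c) M) (eval (pt c) h2) (eval (pt c) h) k1 hh2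
      (fun t ht => k2 1 le_rfl t (by push_cast; linarith)) k3 k4
    have hb0 : 0 ≤ (eval (pt c) M + eval (pt c) h2) * eval (pt c) h := le_trans (by positivity) (hb 0)
    have e1 : eval (pt c) ((M + h2) * h) = (eval (pt c) M + eval (pt c) h2) * eval (pt c) h := by
      rw [map_mul, map_add]
    refine ⟨?_, fun q hq t ht => ?_, fun t => ?_, step_neg T j hj (by omega) _ k4, fun i hi => ?_⟩
    · rw [map_add, e1]; linarith
    · rw [map_add, e1] at ht
      rcases Nat.lt_or_ge 1 q with h' | h'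
      · exact van_two T j (by omega) _ k2 q h' t (by linarith)
      · obtain rfl : q = 1 := le_antisymm h' hq
        refine T.up j (by omega) _ k2 t ?_
        have := hb (eval (pt c) M - 1)
        push_cast at ht
        linarith
    · rw [e1]; exact hb t
    · rcases eq_or_ne i (j + 1) with rfl | hne
      · rw [Function.update_self]
        have h7 := step_coeff T j (by omega) (eval (pt c) M) _ k1 (fun i => eval (pt c) (G i)) k2 (hb _) k5
        refine h7.trans (le_of_eq ?_)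
        simp only [map_add, map_mul, map_pow, map_sum, eval_C]
      · rw [Function.update_of_ne hne]
        exact k5 i (by omega)

end K987.NumTow
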