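import Groth.Agent.Pic13.K987.GenLev
import Groth.Agent.Pic13.K987.GenSeq
import Groth.Agent.Pic13.K987.GenMono
import Groth.Agent.Pic13.K987.Down
import Groth.Agent.Pic13.K987.NumTow

/-!
# One step of the tower of generic hyperplane sections

`IsLev n j h o`: `h q t = h^q(X, L(t))`, `o t = χ(O_X(t))` for some integral normal closed subscheme `X` of dimension
`j` of `P^n` over some field and some invertible `L`.
-/

set_option autoImplicit false
universe u
open CategoryTheory CategoryTheory.Limits AlgebraicGeometry Opposite TopologicalSpace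

namespace K987.GenStep

open Groth.Agent Groth.Agent.Fdesc.LocGen K243.Diff K987.GenLev K987.GenAlg K987.GenX K987.GenSch K987.GenImm
open K987.GenTop K987.GenSeq

/-- The alternating sum. -/
def chi (h : ℕ → ℤ → ℕ) (j : ℕ) (t : ℤ) : ℤ := ∑ q ∈ Finset.range (j + 1), (-1 : ℤ) ^ q * (h q t : ℤ)

/-- Functions realised by a normal closed subscheme of dimension `j`. -/
def IsLev (n j : ℕ) (h : ℕ → ℤ → ℕ) (o : ℤ → ℤ) : Prop :=
  ∃ (k : Type u) (_ : Field k) (X : Scheme.{u}) (_ : X.Over (Spec (CommRingCat.of k)))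
    (i : X ⟶ CohB1.ProjSpace n k) (_ : IsClosedImmersion i) (L : X.Modules),
    i ≫ CohB1.ProjSpace.toSpec n k = X ↘ Spec (CommRingCat.of k) ∧ IsIntegral X ∧ Pi1.IsNormalScheme X ∧
    topologicalKrullDim X = (j : WithBot ℕ∞) ∧ PicF.IsInvertible L ∧
    (∀ q t, h q t = hh k n i L q t) ∧ ∀ t, o t = K243.Hilb.hf k i j (Coh.structureModule X) t

theorem chi_eq {n j : ℕ} {h : ℕ → ℤ → ℕ} {k : Type u} [Field k] {X : Scheme.{u}} [X.Over (Spec (CommRingCat.of k))]
    {i : X ⟶ CohB1.ProjSpace n k} {L : X.Modules} (hh' : ∀ q t, h q t = hh k n i L q t) :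
    chi h j = K243.Hilb.hf k i j L := by
  funext t
  rw [chi, K243.Hilb.hf, FGA.eulerCharLE]
  exact Finset.sum_congr rfl fun q _ => by rw [hh']

section facts

variable {n j : ℕ} {h : ℕ → ℤ → ℕ} {o : ℤ → ℤ} (H : IsLev.{u} n j h o)

include H

theorem dim (q : ℕ) (hq : j < q) (t : ℤ) : h q t = 0 := by
  obtain ⟨k, _, X, _, i, _, L, hi, hint, hn, hd, hL, hh', ho⟩ := H
  rw [hh']
  exact dim_van k n i hi j hd.le L q hq t

theorem serre : ∃ t₀ : ℤ, ∀ t : ℤ, t₀ ≤ t → ∀ q : ℕ, 1 ≤ q → h q t = 0 := by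
  obtain ⟨k, _, X, _, i, _, L, hi, hint, hn, hd, hL, hh', ho⟩ := H
  simp only [hh']
  exact GenLev.serre k n i hi hL

theorem esz (hj : 2 ≤ j) : ∃ t₀ : ℤ, ∀ t : ℤ, t ≤ t₀ → h 1 t = 0 := by
  obtain ⟨k, _, X, _, i, _, L, hi, hint, hn, hd, hL, hh', ho⟩ := H
  simp only [hh']
  exact GenLev.esz k n i hi hL hn (by rw [hd]; exact_mod_cast hj)

theorem neg (s : ℕ) (hs : j = s + 1) (hdeg : nab^[s] (chi h j) 0 ≤ nab^[s] o 0) (t : ℤ) (ht : t < 0) :
    h 0 t = 0 := by
  obtain ⟨k, _, X, _, i, _, L, hi, hint, hn, hd, hL, hh', ho⟩ := H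
  subst hs
  rw [hh']
  refine GenLev.neg k n i hi hL s hd ?_ t ht
  rw [chi_eq hh'] at hdeg
  rwa [show o = K243.Hilb.hf k i (s + 1) (Coh.structureModule X) from funext ho] at hdeg

end facts

section seq

theorem finrank_le_of_exact {K : Type*} [Field K] {A B C : Type*} [AddCommGroup A] [Module K A] [AddCommGroup B]
    [Module K B] [AddCommGroup C] [Module K C] [Module.Finite K A] [Module.Finite K B] [Module.Finite K C]
    (f : A →ₗ[K] B) (g : B →ₗ[K] C) (h : Function.Exact f g) :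
    Module.finrank K B ≤ Module.finrank K A + Module.finrank K C := by
  have h1 := LinearMap.finrank_range_add_finrank_ker g
  have h2 : LinearMap.ker g = LinearMap.range f := LinearMap.exact_iff.mp h
  have h3 : Module.finrank K (LinearMap.range f) ≤ Module.finrank K A := LinearMap.finrank_range_le f
  have h4 : Module.finrank K (LinearMap.range g) ≤ Module.finrank K C := Submodule.finrank_le _
  rw [h2] at h1
  omega

variable {K : Type u} [Field K] {n : ℕ} {S : ShortComplex (CohB1.ProjSpace n K).Modules} (hS : S.ShortExact)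
  (e : S.X₁ ≅ CohB1.tensorMod S.X₂ (Twist.twistProjSpace n K (-1))) (h₂ : Coh.IsCoh S.X₂) (h₃ : Coh.IsCoh S.X₃)

open K244.RegSeq

include e h₂ in
theorem isCoh₁ : Coh.IsCoh S.X₁ :=
  Sga67.CohBasic.isCoh_of_iso e.symm (VarietyB.EulerBinom.isCoh_tensor_twist K n h₂ (-1))

include hS e h₂ h₃ in
theorem seq_e1 (q : ℕ) (t : ℤ) : Module.finrank K (H K n S.X₂ t q) ≤
    Module.finrank K (H K n S.X₂ (t - 1) q) + Module.finrank K (H K n S.X₃ t q) := by
  obtain ⟨e'⟩ := nonempty_equivH e t q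
  have := finite_H K n (isCoh₁ e h₂) t q
  have := finite_H K n h₂ t q
  have := finite_H K n h₃ t q
  rw [← e'.finrank_eq]
  exact finrank_le_of_exact _ _ (exact_fg hS t q)

include hS e h₂ h₃ in
theorem seq_e2 (q : ℕ) (t : ℤ) : Module.finrank K (H K n S.X₂ (t - 1) (q + 1)) ≤
    Module.finrank K (H K n S.X₃ t q) + Module.finrank K (H K n S.X₂ t (q + 1)) := by
  obtain ⟨e'⟩ := nonempty_equivH e t (q + 1)
  have := finite_H K n (isCoh₁ e h₂) t (q + 1)
  have := finite_H K n h₂ t (q + 1)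
  have := finite_H K n h₃ t q
  rw [← e'.finrank_eq]
  exact finrank_le_of_exact _ _ (exact_df hS t q)

end seq

theorem finsum_eq_chi (g : ℕ → ℤ → ℕ) (j : ℕ) (t : ℤ) (hg : ∀ q, j < q → g q t = 0) :
    ∑ᶠ q, (-1 : ℤ) ^ q * (g q t : ℤ) = chi g j t := by
  rw [chi]
  refine finsum_eq_sum_of_support_subset _ fun q hq => ?_
  rw [Finset.coe_range, Set.mem_Iio]
  by_contra hc
  apply hq
  have h0 := hg q (by omega)
  change (-1 : ℤ) ^ q * (g q t : ℤ) = 0
  rw [h0, Nat.cast_zero, mul_zero]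

section step

variable (k : Type u) [Field k] (n : ℕ) {X : Scheme.{u}} (i : X ⟶ CohB1.ProjSpace n k)
  [X.Over (Spec (CommRingCat.of k))] [IsClosedImmersion i]
  (hi : i ≫ CohB1.ProjSpace.toSpec n k = X ↘ Spec (CommRingCat.of k)) [IsIntegral X]
  {L : X.Modules} (hL : PicF.IsInvertible L)

omit [IsIntegral X] in
include hi hL in
theorem hh_iG (q : ℕ) (t : ℤ) : hh (Gen k n) n (iG k n i hi) (LK k n L) q t = hh k n i L q t := by
  have hp := K243.Base.isProper_of i hi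
  exact finrank_twistOn k n i hi hL t q

include hL in
/-- The exact sequence with its numerical data. -/
theorem exists_seq' : ∃ S : ShortComplex (CohB1.ProjSpace n (Gen k n)).Modules, S.ShortExact ∧
      Nonempty (S.X₁ ≅ CohB1.tensorMod S.X₂ (Twist.twistProjSpace n (Gen k n) (-1))) ∧
      Coh.IsCoh S.X₂ ∧ Coh.IsCoh S.X₃ ∧
      (∀ q t, Module.finrank (Gen k n) (K244.RegSeq.H (Gen k n) n S.X₂ t q) = hh k n i L q t) ∧
      (∀ q t, Module.finrank (Gen k n) (K244.RegSeq.H (Gen k n) n S.X₃ t q) =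
        hh (Gen k n) n (jj k n i hi) (LY k n i L) q t) ∧
      Nonempty (S.X₃ ≅ (Scheme.Modules.pushforward (jj k n i hi)).obj (LY k n i L)) := by
  obtain ⟨S, hS, e₁, ⟨e₂⟩, ⟨e₃⟩⟩ := exists_seq k n i hi hL
  have hLK : PicF.IsInvertible (LK k n L) := isInvertible_pullback _ hL
  have hLY : PicF.IsInvertible (LY k n i L) := isInvertible_pullback _ hLK
  refine ⟨S, hS, e₁, Sga67.CohBasic.isCoh_of_iso e₂.symm (isCoh_push _ n (iG k n i hi) hLK),
    Sga67.CohBasic.isCoh_of_iso e₃.symm (isCoh_push _ n (jj k n i hi) hLY), fun q t => ?_, fun q t => ?_, ⟨e₃⟩⟩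
  · rw [← hh_iG k n i hi hL, finrank_hh (Gen k n) n (iG k n i hi) (iG_toSpec k n i hi)]
    exact (Fga.PicMon.hmapEquiv (Gen k n) _
      ((DCoh.tensorRightMod (Twist.twistProjSpace n (Gen k n) t)).mapIso e₂) q).finrank_eq
  · rw [finrank_hh (Gen k n) n (jj k n i hi) (jj_toSpec k n i hi)]
    exact (Fga.PicMon.hmapEquiv (Gen k n) _
      ((DCoh.tensorRightMod (Twist.twistProjSpace n (Gen k n) t)).mapIso e₃) q).finrank_eq

variable (j : ℕ) (hd : topologicalKrullDim X = ((j + 1 : ℕ) : WithBot ℕ∞))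

include hi hd in
theorem dim_YY : topologicalKrullDim (YY k n i) = (j : WithBot ℕ∞) := by
  have hp := K243.Base.isProper_of i hi
  exact dim_Y k n (K243.Base.isInvertible_O i 1) (cs k n i) (isAffineOpen_cs k n i) (exists_mem_cs k n i)
    (zero_nonempty k n i hi j hd) j hd

include hL hd in
theorem nab_hf : nab (K243.Hilb.hf k i (j + 1) L) = K243.Hilb.hf (Gen k n) (jj k n i hi) j (LY k n i L) := by
  obtain ⟨S, hS, ⟨e₁⟩, h₂, h₃, hB, hC, -⟩ := exists_seq' k n i hi hL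
  funext t
  have key := VarietyB.EulerBinom.euler_obj_add (Gen k n) n hS (isCoh₁ e₁ h₂) h₂ h₃ t
  obtain ⟨e'⟩ := K244.RegSeq.nonempty_shift e₁ t
  rw [VarietyB.EulerBinom.euler_iso (Gen k n) n (F := (DCoh.tensorRightMod (Twist.twistProjSpace n (Gen k n) t)).obj S.X₁)
    (G := CohB1.tensorMod S.X₂ (Twist.twistProjSpace n (Gen k n) (t - 1))) e'] at key
  have hB' : ∀ t, Curv2.euler (Gen k n) (CohB1.ProjSpace n (Gen k n))
      (CohB1.tensorMod S.X₂ (Twist.twistProjSpace n (Gen k n) t)) = K243.Hilb.hf k i (j + 1) L t := by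
    intro t
    rw [← chi_eq (h := hh k n i L) (j := j + 1) (fun q t => rfl), ← finsum_eq_chi _ _ _
      (fun q hq => dim_van k n i hi (j + 1) hd.le L q hq t)]
    unfold Curv2.euler
    exact finsum_congr fun q => by rw [← hB q t]
  have hC' : ∀ t, Curv2.euler (Gen k n) (CohB1.ProjSpace n (Gen k n))
      (CohB1.tensorMod S.X₃ (Twist.twistProjSpace n (Gen k n) t)) =
        K243.Hilb.hf (Gen k n) (jj k n i hi) j (LY k n i L) t := by
    intro t
    rw [← chi_eq (h := hh (Gen k n) n (jj k n i hi) (LY k n i L)) (j := j) (fun q t => rfl), ← finsum_eq_chi _ _ _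
      (fun q hq => dim_van (Gen k n) n (jj k n i hi) (jj_toSpec k n i hi) j (dim_YY k n i hi j hd).le _ q hq t)]
    unfold Curv2.euler
    exact finsum_congr fun q => by rw [← hC q t]
  have key' : Curv2.euler (Gen k n) (CohB1.ProjSpace n (Gen k n))
      (CohB1.tensorMod S.X₂ (Twist.twistProjSpace n (Gen k n) t)) =
      Curv2.euler (Gen k n) (CohB1.ProjSpace n (Gen k n))
      (CohB1.tensorMod S.X₂ (Twist.twistProjSpace n (Gen k n) (t - 1))) +
      Curv2.euler (Gen k n) (CohB1.ProjSpace n (Gen k n))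
      (CohB1.tensorMod S.X₃ (Twist.twistProjSpace n (Gen k n) t)) := key
  rw [hB', hB', hC'] at key'
  rw [nab_apply, key']
  ring

end step

/-- **One step.** -/
theorem step {n j : ℕ} {h : ℕ → ℤ → ℕ} {o : ℤ → ℤ} (H : IsLev.{u} n (j + 1) h o) :
    ∃ h' : ℕ → ℤ → ℕ, IsLev.{u} n j h' (nab o) ∧
      (∀ q t, h q t ≤ h q (t - 1) + h' q t) ∧
      (∀ q t, h (q + 1) (t - 1) ≤ h' q t + h (q + 1) t) ∧
      nab (chi h (j + 1)) = chi h' j ∧
      (∀ m : ℤ, (∀ q : ℕ, 1 ≤ q → ∀ t : ℤ, m - q ≤ t → h' q t = 0) →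
        ∀ t : ℤ, m - 1 + (h 1 (m - 1) : ℤ) ≤ t → h 1 t = 0) ∧
      ((∀ t : ℤ, t < 0 → h' 0 t = 0) → (∃ t₀ : ℤ, ∀ t : ℤ, t ≤ t₀ → h 1 t = 0) →
        ∀ t : ℤ, t ≤ -2 - (h 1 (-2) : ℤ) → h 1 t = 0) := by
  obtain ⟨k, _, X, _, i, _, L, hi, hint, hn, hd, hL, hh', ho⟩ := H
  have hp := K243.Base.isProper_of i hi
  have hO := K243.Coeffs.isInvertible_unit (X := X)
  have hLK : PicF.IsInvertible (LK k n L) := isInvertible_pullback _ hL
  have hLY : PicF.IsInvertible (LY k n i L) := isInvertible_pullback _ hLK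
  have hne := zero_nonempty k n i hi j hd
  have hNY := isNormal_Y k n (K243.Base.isInvertible_O i 1) (cs k n i) (isAffineOpen_cs k n i)
    (exists_mem_cs k n i) hn
  have hIY : IsIntegral (YY k n i) := isIntegral_Y k n (K243.Base.isInvertible_O i 1) (cs k n i)
    (isAffineOpen_cs k n i) (exists_mem_cs k n i) hn hne
  have hdY := dim_YY k n i hi j hd
  obtain ⟨S, hS, ⟨e₁⟩, h₂, h₃, hB, hC, ⟨e₃⟩⟩ := exists_seq' k n i hi hL
  have hz₂ : ∀ q t, h q t = 0 ↔ Subsingleton (K244.RegSeq.H (Gen k n) n S.X₂ t q) := by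
    intro q t
    have := K244.RegSeq.finite_H (Gen k n) n h₂ t q
    rw [hh', ← hB]
    exact Module.finrank_zero_iff
  have hz₃ : ∀ q t, hh (Gen k n) n (jj k n i hi) (LY k n i L) q t = 0 ↔
      Subsingleton (K244.RegSeq.H (Gen k n) n S.X₃ t q) := by
    intro q t
    have := K244.RegSeq.finite_H (Gen k n) n h₃ t q
    rw [← hC]
    exact Module.finrank_zero_iff
  refine ⟨hh (Gen k n) n (jj k n i hi) (LY k n i L), ⟨Gen k n, inferInstance, YY k n i, inferInstance, jj k n i hi,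
    inferInstance, LY k n i L, jj_toSpec k n i hi, hIY, hNY, hdY, hLY, fun q t => rfl, fun t => ?_⟩,
    fun q t => ?_, fun q t => ?_, ?_, ?_, ?_⟩
  · have h1 := nab_hf k n i hi hO j hd
    rw [show o = K243.Hilb.hf k i (j + 1) (Coh.structureModule X) from funext ho, h1]
    refine congrFun (K243.Hilb.hf_congr (Gen k n) (jj k n i hi) j ?_) t
    exact Fga.PicMon.mc_eq ((Scheme.Modules.pullback (zz k n i)).mapIso (CurvesA.HHMap.pullbackUnit (pr k n X)) ≪≫
      CurvesA.HHMap.pullbackUnit (zz k n i))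
  · rw [hh', hh', ← hB, ← hB, ← hC]
    exact seq_e1 hS e₁ h₂ h₃ q t
  · rw [hh', hh', ← hB, ← hB, ← hC]
    exact seq_e2 hS e₁ h₂ h₃ q t
  · rw [chi_eq hh', nab_hf k n i hi hL j hd, chi_eq (fun q t => rfl)]
  · intro m hm t ht
    rw [hz₂]
    refine K244.RegSeq.van_one hS e₁ h₂ (m := m) h₃ (fun q hq _ => ?_) t ?_
    · exact (hz₃ q (m - q)).mp (hm q hq (m - q) le_rfl)
    · rw [hB, ← hh']
      exact ht
  · intro hneg hesz t ht
    rw [hz₂]
    obtain ⟨i₀, hi₀⟩ := GenMono.exists_mono (Gen k n) n (jj k n i hi) hLY e₃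
    refine Down.van_down hS e₁ h₂ i₀ hi₀ (fun t ht => (hz₃ 0 t).mp (hneg t ht)) ?_ t ?_
    · obtain ⟨t₀, h0⟩ := hesz
      exact ⟨t₀, fun t ht => (hz₂ 1 t).mp (h0 t ht)⟩
    · rw [hB, ← hh']
      exact ht

end K987.GenStep
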