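import Groth.Agent.Pic13.K987.GenSch
import Groth.Agent.Pic13.K987.GenImm
import Groth.Agent.Pic13.K243.NoSec
import Groth.Agent.Ega2.VeryAmpleAmple
import Groth.Agent.Fga.PosMain

/-!
# The generic hyperplane section of a closed subscheme of projective space

For `i : X ⟶ P^n_k` closed, `X` integral of dimension `j + 1`: the generic hyperplane section `Y ⊂ X_K` is nonempty.
-/

set_option autoImplicit false
universe u
open CategoryTheory CategoryTheory.Limits AlgebraicGeometry Opposite TopologicalSpace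

namespace K987.GenTop

open Groth.Agent Groth.Agent.Fdesc.LocGen K987.GenAlg K987.GenX K987.GenSch K987.GenImm
open Groth.Agent.Fga.PicMon

variable (k : Type u) [Field k] (n : ℕ) {X : Scheme.{u}} (i : X ⟶ CohB1.ProjSpace n k)

/-- The coordinate sections of `O_X(1)`. -/
noncomputable def cs (m : Fin (n + 1)) : Coh.structureModule X ⟶ K243.Base.O i 1 :=
  Ega2.Weight.pullHom i (Ega2.VeryAmpleAmple.coordSec (n := n) (R := k) m)

theorem genLocus_cs (m : Fin (n + 1)) : CohB1.genLocus _ (cs k n i m) = i ⁻¹ᵁ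
    Proj.basicOpen (CohB1.polyGrading n k) (MvPolynomial.X m : MvPolynomial (Fin (n + 1)) k) := by
  rw [cs, Ega2.Weight.genLocus_pullHom _ (Ega2.VeryAmpleAmple.isInvertible_twistProjSpace n k 1),
    Ega2.VeryAmpleAmple.genLocus_coordSec]

theorem isAffineOpen_cs [IsAffineHom i] (m : Fin (n + 1)) : IsAffineOpen (CohB1.genLocus _ (cs k n i m)) := by
  rw [genLocus_cs]
  have h : IsAffineOpen (X := CohB1.ProjSpace n k)
      (Proj.basicOpen (CohB1.polyGrading n k) (MvPolynomial.X m : MvPolynomial (Fin (n + 1)) k)) :=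
    Proj.isAffineOpen_basicOpen _ _ (MvPolynomial.isHomogeneous_X k m) one_pos
  exact h.preimage i

theorem exists_mem_cs (x : X) : ∃ m, x ∈ CohB1.genLocus _ (cs k n i m) := by
  obtain ⟨m, hm⟩ := Ega2.VeryAmpleAmple.exists_notMem_X (i x : ProjectiveSpectrum (CohB1.polyGrading n k))
  refine ⟨m, ?_⟩
  rw [genLocus_cs]
  exact hm

section

variable [X.Over (Spec (CommRingCat.of k))] [IsClosedImmersion i]
  (hi : i ≫ CohB1.ProjSpace.toSpec n k = X ↘ Spec (CommRingCat.of k))

include hi in
theorem zero_nonempty (j : ℕ) (hd : topologicalKrullDim X = ((j + 1 : ℕ) : WithBot ℕ∞)) :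
    (zero k n (cs k n i)).Nonempty := by
  have hp : IsProper (X ↘ Spec (CommRingCat.of k)) := K243.Base.isProper_of i hi
  by_contra hne
  rw [Set.not_nonempty_iff_eq_empty] at hne
  have htop : CohB1.genLocus _ (genSec k n (cs k n i)) = ⊤ := by
    apply Opens.ext
    rw [← compl_compl (CohB1.genLocus _ (genSec k n (cs k n i)) : Set (XG k n X))]
    change (zero k n (cs k n i))ᶜ = _
    rw [hne, Set.compl_empty]
    rfl
  have hiso := K243.NoSec.isIso_of_genLocus _ htop
  have e : Coh.structureModule (XG k n X) ≅ K243.Base.O (iG k n i hi) 1 :=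
    asIso (genSec k n (cs k n i)) ≪≫ pullO k n i hi 1
  have h1 : K243.Base.o (iG k n i hi) 1 = 1 := by
    rw [← K243.Base.mc_O, ← mc_one]
    exact mc_eq e.symm
  have h2 : K243.Base.o (iG k n i hi) (-1) = 1 := by
    have := K243.Base.o_mul_neg (iG k n i hi) 1
    rwa [h1, one_mul] at this
  have hdim : topologicalKrullDim (XG k n X) = ((j + 1 : ℕ) : WithBot ℕ∞) := (dim_XG k n X).trans hd
  have hpos := Fga.PosMain.intNum_pos (Gen k n) (XG k n X) (j + 1) hdim.le
    (r := j + 1) (fun _ => K243.Base.O (iG k n i hi) 1) (fun _ => K243.Base.O (iG k n i hi) (-1))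
    (fun _ => K243.Base.isAmple_O (iG k n i hi)) (fun _ => K243.Base.nonempty_O_mul_neg (iG k n i hi) 1)
    (Coh.structureModule (XG k n X)) (CurvesC.UnitCoh.isCoh_unit _) (by
      rw [Pic13.H956.Numbers.support_unit]
      exact ((Homeomorph.Set.univ _).isHomeomorph.topologicalKrullDim_eq).trans hdim)
  have hfun : (fun _ : Fin (j + 1) => K243.Base.O (iG k n i hi) (-1)) =
      (Fin.cons (K243.Base.O (iG k n i hi) (-1)) (fun _ : Fin j => K243.Base.O (iG k n i hi) (-1)) :
        Fin (j + 1) → (XG k n X).Modules) := by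
    funext l
    cases l using Fin.cases <;> rfl
  obtain ⟨e'⟩ := (mc_eq_iff (CohB1.tensorMod (K243.Base.O (iG k n i hi) (-1)) (Coh.structureModule (XG k n X)))
    (Coh.structureModule (XG k n X))).mp (by rw [mc_tensor, K243.Base.mc_O, h2, mc_one, one_mul])
  rw [hfun, intNum_cons, intNum_iso (Gen k n) (XG k n X) (j + 1) _ e', sub_self] at hpos
  exact lt_irrefl _ hpos

end

end K987.GenTop
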