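import Groth.Agent.Pic13.K987.GenStep

/-!
# The tower of generic hyperplane sections
-/

set_option autoImplicit false
universe u
open CategoryTheory CategoryTheory.Limits AlgebraicGeometry Opposite TopologicalSpace

namespace K987.GenTow

open K243.Diff K987.GenStep K987.NumTow Finset

/-- The binomial expansion. -/
theorem nab_sum (c : ℕ → ℤ) (r : ℕ) (t : ℤ) :
    nab (fun t => ∑ i ∈ range (r + 2), c (r + 1 - i) * cc i t) t = ∑ i ∈ range (r + 1), c (r - i) * cc i t := by
  rw [nab_apply, ← sum_sub_distrib, sum_range_succ']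
  rw [cc_zero, cc_zero, sub_self, add_zero]
  refine sum_congr rfl fun i _ => ?_
  rw [← nab_cc_succ i t, nab_apply, Nat.add_sub_add_right]
  ring

/-- **The tower.** -/
theorem exists_tow (n : ℕ) (c : ℕ → ℤ) (r : ℕ) : ∀ (h : ℕ → ℤ → ℕ) (o : ℤ → ℤ), IsLev.{u} n r h o →
    (1 ≤ r → nab^[r - 1] (chi h r) 0 ≤ nab^[r - 1] o 0) →
    (∀ t, chi h r t = ∑ i ∈ range (r + 1), c (r - i) * cc i t) → ∃ H : ℕ → ℕ → ℤ → ℕ, Tow r H c ∧ H r = h := by
  induction r with
  | zero =>
    intro h o hl hdeg hc
    refine ⟨fun _ => h, ⟨fun j hj => by omega, fun j hj => by omega, fun j hj t => ?_, fun j hj q hq t => ?_,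
      fun j hj => serre hl, fun j h1 h2 => by omega, fun j h1 h2 => by omega, fun j hj => by omega,
      fun h2 => by omega⟩, rfl⟩
    · obtain rfl : j = 0 := by omega
      exact hc t
    · obtain rfl : j = 0 := by omega
      exact dim hl q hq t
  | succ r ih =>
    intro h o hl hdeg hc
    obtain ⟨h', hl', e1, e2, hchi, hup, hdown⟩ := step hl
    have hdeg' : nab^[r] (chi h (r + 1)) 0 ≤ nab^[r] o 0 := hdeg (by omega)
    have hc' : ∀ t, chi h' r t = ∑ i ∈ range (r + 1), c (r - i) * cc i t := by
      intro t
      rw [← hchi, ← nab_sum, show chi h (r + 1) = fun t => ∑ i ∈ range (r + 2), c (r + 1 - i) * cc i t from funext hc]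
    obtain ⟨H', T', hH'⟩ := ih h' (nab o) hl' (fun hr => by
      obtain ⟨r, rfl⟩ : ∃ r', r = r' + 1 := ⟨r - 1, by omega⟩
      rw [← hchi]
      simpa only [Nat.add_sub_cancel, Function.iterate_succ_apply] using hdeg') hc'
    have hneg : ∀ t : ℤ, t < 0 → h 0 t = 0 := fun t ht => neg hl r rfl hdeg' t ht
    have hHr : ∀ j, j ≤ r → Function.update H' (r + 1) h j = H' j := fun j hj =>
      Function.update_of_ne (by omega) _ _
    have hHs : Function.update H' (r + 1) h (r + 1) = h := Function.update_self _ _ _
    refine ⟨Function.update H' (r + 1) h, ⟨?_, ?_, ?_, ?_, ?_, ?_, ?_, ?_, ?_⟩, hHs⟩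
    · intro j hj q t
      rcases Nat.lt_or_ge j r with hjr | hjr
      · rw [hHr _ (by omega), hHr _ (by omega)]
        exact T'.e1 j hjr q t
      · obtain rfl : j = r := by omega
        rw [hHs, hHr _ le_rfl, hH']
        exact e1 q t
    · intro j hj q t
      rcases Nat.lt_or_ge j r with hjr | hjr
      · rw [hHr _ (by omega), hHr _ (by omega)]
        exact T'.e2 j hjr q t
      · obtain rfl : j = r := by omega
        rw [hHs, hHr _ le_rfl, hH']
        exact e2 q t
    · intro j hj t
      rcases Nat.lt_or_ge j (r + 1) with hjr | hjr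
      · rw [hHr _ (by omega)]
        exact T'.chi j (by omega) t
      · obtain rfl : j = r + 1 := by omega
        rw [hHs]
        exact hc t
    · intro j hj q hq t
      rcases Nat.lt_or_ge j (r + 1) with hjr | hjr
      · rw [hHr _ (by omega)]
        exact T'.dim j (by omega) q hq t
      · obtain rfl : j = r + 1 := by omega
        rw [hHs]
        exact dim hl q hq t
    · intro j hj
      rcases Nat.lt_or_ge j (r + 1) with hjr | hjr
      · rw [hHr _ (by omega)]
        exact T'.serre j (by omega)
      · obtain rfl : j = r + 1 := by omega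
        rw [hHs]
        exact serre hl
    · intro j h1 hj
      rcases Nat.lt_or_ge j (r + 1) with hjr | hjr
      · rw [hHr _ (by omega)]
        exact T'.neg j h1 (by omega)
      · obtain rfl : j = r + 1 := by omega
        rw [hHs]
        exact hneg
    · intro j h2 hj
      rcases Nat.lt_or_ge j (r + 1) with hjr | hjr
      · rw [hHr _ (by omega)]
        exact T'.esz j h2 (by omega)
      · obtain rfl : j = r + 1 := by omega
        rw [hHs]
        exact esz hl h2
    · intro j hj
      rcases Nat.lt_or_ge j r with hjr | hjr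
      · rw [hHr _ (by omega), hHr _ (by omega)]
        exact T'.up j hjr
      · obtain rfl : j = r := by omega
        rw [hHs, hHr _ le_rfl, hH']
        exact hup
    · intro h2
      rcases Nat.lt_or_ge r 2 with hr | hr
      · obtain rfl : r = 1 := by omega
        rw [hHs]
        refine hdown ?_ (esz hl h2)
        have := T'.neg 1 le_rfl le_rfl
        rwa [hH'] at this
      · rw [hHr _ hr]
        exact T'.down hr

end K987.GenTow
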