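import Groth.Agent.Pic13.K987.GenAlg
import Groth.Agent.Pic13.H956.GenSec
import Groth.Agent.Fdesc.BaseField
import Groth.Agent.Flat2G.ProperDim
import Mathlib.AlgebraicGeometry.Geometrically.Integral
import Mathlib.AlgebraicGeometry.Morphisms.Proper
import Mathlib.AlgebraicGeometry.Noetherian

/-!
# The extension `K = k(t_0, …, t_n)`: schemes

For a `k`-scheme `X`, `XG k n X = X ×_k K` with projection `pr k n X : XG k n X ⟶ X`; `XG k n X` is integral if `X` is.
-/

set_option autoImplicit false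

universe u

open CategoryTheory CategoryTheory.Limits AlgebraicGeometry TopologicalSpace TensorProduct

namespace K987.GenX

open Groth.Agent K987.GenAlg Groth.Agent.Fdesc.LocGen

variable (k : Type u) [Field k] (n : ℕ)

/-- `Spec K ⟶ Spec k`. -/
noncomputable def σ : Spec (CommRingCat.of (Gen k n)) ⟶ Spec (CommRingCat.of k) :=
  Spec.map (CommRingCat.ofHom (algebraMap k (Gen k n)))

instance : Flat (σ k n) := Fdesc.BaseField.flat_of_field _

instance : IsAffineHom (σ k n) := inferInstanceAs (IsAffineHom (Spec.map _))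

instance : UniversallyOpen (σ k n) := Fdesc.BaseField.universallyOpen_of_field _

instance : GeometricallyIntegral (σ k n) := by
  refine ⟨geometrically_iff_of_commRing.mpr fun K _ _ Z fst snd h => ?_⟩
  have h1 : IsDomain (K ⊗[k] Gen k n) := GenAlg.isDomain_tensor k n
  have h2 : IsDomain (Gen k n ⊗[k] K) := (Algebra.TensorProduct.comm k (Gen k n) K).toRingEquiv.toMulEquiv.isDomain _
  have h3 : IsIntegral (Spec (CommRingCat.of (Gen k n ⊗[k] K))) := inferInstance
  have e := h.isoPullback ≪≫ pullbackSpecIso k (Gen k n) K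
  have : Nonempty Z := ⟨e.inv (Classical.arbitrary _)⟩
  exact isIntegral_of_isOpenImmersion e.hom

variable (X : Scheme.{u}) [X.Over (Spec (CommRingCat.of k))]

/-- `X ×_k K`. -/
noncomputable abbrev XG : Scheme.{u} := pullback (X ↘ Spec (CommRingCat.of k)) (σ k n)

/-- The projection `X ×_k K ⟶ X`. -/
noncomputable abbrev pr : XG k n X ⟶ X := pullback.fst (X ↘ Spec (CommRingCat.of k)) (σ k n)

noncomputable instance : (XG k n X).Over (Spec (CommRingCat.of (Gen k n))) :=
  ⟨pullback.snd (X ↘ Spec (CommRingCat.of k)) (σ k n)⟩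

theorem isPullback : IsPullback (pr k n X) (XG k n X ↘ Spec (CommRingCat.of (Gen k n)))
    (X ↘ Spec (CommRingCat.of k)) (σ k n) := IsPullback.of_hasPullback _ _

instance [IsProper (X ↘ Spec (CommRingCat.of k))] : IsProper (XG k n X ↘ Spec (CommRingCat.of (Gen k n))) :=
  inferInstanceAs (IsProper (pullback.snd (X ↘ Spec (CommRingCat.of k)) (σ k n)))

instance : Flat (pr k n X) := inferInstance
instance : IsAffineHom (pr k n X) := MorphismProperty.pullback_fst _ _ inferInstance
instance : Surjective (pr k n X) := inferInstance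

instance isIntegral_XG [LocallyOfFiniteType (X ↘ Spec (CommRingCat.of k))] [IsIntegral X] :
    IsIntegral (XG k n X) := by
  have : IsLocallyNoetherian X := LocallyOfFiniteType.isLocallyNoetherian (X ↘ Spec (CommRingCat.of k))
  infer_instance

theorem dim_XG [LocallyOfFiniteType (X ↘ Spec (CommRingCat.of k))] :
    topologicalKrullDim (XG k n X) = topologicalKrullDim X :=
  Flat2G.ProperDim.topologicalKrullDim_eq_of_isPullback_field (K := CommRingCat.of k) (L := CommRingCat.of (Gen k n))
    (Field.toIsField k) (Field.toIsField (Gen k n)) (X ↘ Spec (CommRingCat.of k)) _ (pr k n X) _ (isPullback k n X)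

/-- The pushout square of rings over an affine open. -/
theorem isPushout_app {W : X.Opens} (hW : IsAffineOpen W) :
    IsPushout ((Scheme.ΓSpecIso (CommRingCat.of k)).inv ≫ (X ↘ Spec (CommRingCat.of k)).appLE ⊤ W le_top)
      (CommRingCat.ofHom (algebraMap k (Gen k n))) ((pr k n X).app W)
      ((Scheme.ΓSpecIso (CommRingCat.of (Gen k n))).inv ≫
        (XG k n X ↘ Spec (CommRingCat.of (Gen k n))).appLE ⊤ (pr k n X ⁻¹ᵁ W) le_top) := by
  have h := Fga.LimSec.isPushout_of_isAffineOpen (isPullback k n X) hW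
  have e1 : (pr k n X).appLE W (pr k n X ⁻¹ᵁ W) le_rfl = (pr k n X).app W := Scheme.Hom.appLE_eq_app _
  rw [e1] at h
  refine IsPushout.of_iso h (Scheme.ΓSpecIso (CommRingCat.of k)) (Iso.refl _)
    (Scheme.ΓSpecIso (CommRingCat.of (Gen k n))) (Iso.refl _) ?_ ?_ ?_ ?_
  · rw [Iso.refl_hom, Category.comp_id, Iso.hom_inv_id_assoc]
  · have e2 : (σ k n).appLE ⊤ ⊤ le_top = (σ k n).appTop := Scheme.Hom.appLE_eq_app (σ k n)
    rw [e2, σ]
    exact Scheme.ΓSpecIso_naturality _
  · rw [Iso.refl_hom, Iso.refl_hom, Category.comp_id, Category.id_comp]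
  · rw [Iso.refl_hom, Category.comp_id, Iso.hom_inv_id_assoc]

/-- The function `t_j` on `X ×_k K`. -/
noncomputable def tt (j : Fin (n + 1)) : Γ(XG k n X, ⊤) :=
  (XG k n X ↘ Spec (CommRingCat.of (Gen k n))).appTop ((Scheme.ΓSpecIso (CommRingCat.of (Gen k n))).inv (t k n j))

theorem ores_tt (j : Fin (n + 1)) (V : (XG k n X).Opens) : ores le_top (tt k n X j) =
    ((Scheme.ΓSpecIso (CommRingCat.of (Gen k n))).inv ≫
        (XG k n X ↘ Spec (CommRingCat.of (Gen k n))).appLE ⊤ V le_top) (t k n j) := rfl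

variable {X} {N : X.Modules}

/-- The generic section `∑ t_j s_j`. -/
noncomputable def genSec (s : Fin (n + 1) → (Coh.structureModule X ⟶ N)) :
    Coh.structureModule (XG k n X) ⟶ (Scheme.Modules.pullback (pr k n X)).obj N :=
  homOf (∑ j, tt k n X j • sec (Ega2.Weight.pullHom (pr k n X) (s j)) ⊤)

theorem sec_genSec (s : Fin (n + 1) → (Coh.structureModule X ⟶ N)) (V : (XG k n X).Opens) :
    sec (genSec k n s) V =
      ∑ j, (ores le_top (tt k n X j) : Γ(XG k n X, V)) • sec (Ega2.Weight.pullHom (pr k n X) (s j)) V := by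
  rw [genSec, sec_homOf, map_sum]
  refine Finset.sum_congr rfl fun j _ => ?_
  rw [res_smul, res_sec]

/-- The local equation. -/
noncomputable def eqn (W : X.Opens) (f : Fin (n + 1) → Γ(X, W)) : Γ(XG k n X, pr k n X ⁻¹ᵁ W) :=
  bP ((pr k n X).app W) ((Scheme.ΓSpecIso (CommRingCat.of (Gen k n))).inv ≫
        (XG k n X ↘ Spec (CommRingCat.of (Gen k n))).appLE ⊤ (pr k n X ⁻¹ᵁ W) le_top) f

theorem sec_genSec_eq (s : Fin (n + 1) → (Coh.structureModule X ⟶ N)) (W : X.Opens) (e : Γ(N, W))
    (f : Fin (n + 1) → Γ(X, W)) (hf : ∀ j, sec (s j) W = f j • e) :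
    sec (genSec k n s) (pr k n X ⁻¹ᵁ W) = eqn k n W f • pullSec (pr k n X) e := by
  rw [sec_genSec, eqn, bP, Finset.sum_smul]
  refine Finset.sum_congr rfl fun j _ => ?_
  rw [Ega2.Weight.sec_pullHom, hf, pullSec_smul, ores_tt, mul_comm, mul_smul]

end K987.GenX
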